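import Mathlib
import Cfsg.Prelude.Def_EvenType
import Cfsg.Agent.H304.GL52
import Cfsg.Agent.H168.GLFour
import Cfsg.Agent.ClassicalGeometry.AutPSL.Main
import Cfsg.Agent.S0249

/-!
# Facts about `GL(5,2)` (helper439)

`Facts L` : what is used about `L ≅ GL(5,2)` in the proof of S3731.
-/

set_option autoImplicit false
set_option linter.unusedSectionVars false

namespace Cfsg.Agent.H439.LSeven

open Subgroup Cfsg

/-- facts about `GL(5,2)` -/
structure Facts (L : Type*) [Group L] : Prop where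
  card : Nat.card L = 9999360
  simple : IsSimpleGroup L
  na : ∃ a b : L, a * b ≠ b * a
  yw : ∃ y w : L, orderOf y = 31 ∧ w ^ 5 = 1 ∧ w * y * w⁻¹ = y ^ 2
  ts : ∃ t s : L, orderOf t = 2 ∧ orderOf s = 7 ∧ t * s = s * t
  e9 : ∃ A : Subgroup L, IsElementaryAbelian 3 A ∧ Nat.card A = 9
  e8 : PRankAtLeast 2 3 L
  aut : ¬ 27 ∣ Nat.card (MulAut L)
  aut11 : ¬ 11 ∣ Nat.card (MulAut L)

namespace GLFive

local notation "M5" => Matrix (Fin 5) (Fin 5) (ZMod 2)
local notation "G5" => GL (Fin 5) (ZMod 2)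

/-- powers of the companion matrix of `x⁵ + x² + 1` -/
def m1 : M5 := !![0,0,0,0,1; 1,0,0,0,0; 0,1,0,0,1; 0,0,1,0,0; 0,0,0,1,0]
def m2 : M5 := !![0,0,0,1,0; 0,0,0,0,1; 1,0,0,1,0; 0,1,0,0,1; 0,0,1,0,0]
def m3 : M5 := !![0,0,1,0,0; 0,0,0,1,0; 0,0,1,0,1; 1,0,0,1,0; 0,1,0,0,1]
def m4 : M5 := !![0,1,0,0,1; 0,0,1,0,0; 0,1,0,1,1; 0,0,1,0,1; 1,0,0,1,0]
def m7 : M5 := !![0,1,0,1,1; 0,0,1,0,1; 1,1,0,0,1; 0,1,1,0,0; 1,0,1,1,0]
def m8 : M5 := !![1,0,1,1,0; 0,1,0,1,1; 1,0,0,1,1; 1,1,0,0,1; 0,1,1,0,0]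
def m15 : M5 := !![1,1,1,1,0; 1,1,1,1,1; 1,0,0,0,1; 1,1,0,0,0; 1,1,1,0,0]
def m30 : M5 := !![0,1,0,0,0; 1,0,1,0,0; 0,0,0,1,0; 0,0,0,0,1; 1,0,0,0,0]
/-- powers of the Frobenius map -/
def f1 : M5 := !![1,0,0,0,1; 0,0,0,1,0; 0,1,0,0,1; 0,0,0,1,1; 0,0,1,0,0]
def f2 : M5 := !![1,0,1,0,1; 0,0,0,1,1; 0,0,1,1,0; 0,0,1,1,1; 0,1,0,0,1]
def f4 : M5 := !![1,1,0,1,0; 0,1,1,1,0; 0,0,0,0,1; 0,1,0,0,0; 0,1,0,1,0]

theorem e2 : m1 * m1 = m2 := by decide +kernel
theorem e3 : m2 * m1 = m3 := by decide +kernel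
theorem e4 : m2 * m2 = m4 := by decide +kernel
theorem e7 : m4 * m3 = m7 := by decide +kernel
theorem e8 : m4 * m4 = m8 := by decide +kernel
theorem e15 : m8 * m7 = m15 := by decide +kernel
theorem e30 : m15 * m15 = m30 := by decide +kernel
theorem e31 : m30 * m1 = 1 := by decide +kernel
theorem e31' : m1 * m30 = 1 := by decide +kernel
theorem e_ne : m1 ≠ 1 := by decide +kernel
theorem g2 : f1 * f1 = f2 := by decide +kernel
theorem g4 : f2 * f2 = f4 := by decide +kernel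
theorem g5 : f4 * f1 = 1 := by decide +kernel
theorem g5' : f1 * f4 = 1 := by decide +kernel
theorem gm : f1 * m1 = m2 * f1 := by decide +kernel

def y : G5 := ⟨m1, m30, e31', e31⟩
def w : G5 := ⟨f1, f4, g5', g5⟩

theorem y_pow : y ^ 31 = 1 := by
  apply Units.ext
  have h : y ^ 31 = ((y * y) * (y * y) * ((y * y) * (y * y)) * ((y * y) * (y * y) * ((y * y) * y))) *
      ((y * y) * (y * y) * ((y * y) * (y * y)) * ((y * y) * (y * y) * ((y * y) * y))) * y := by
    simp only [pow_succ, pow_zero, one_mul, mul_assoc]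
  rw [h]
  show ((m1 * m1) * (m1 * m1) * ((m1 * m1) * (m1 * m1)) * ((m1 * m1) * (m1 * m1) * ((m1 * m1) * m1))) *
      ((m1 * m1) * (m1 * m1) * ((m1 * m1) * (m1 * m1)) * ((m1 * m1) * (m1 * m1) * ((m1 * m1) * m1))) * m1 = 1
  rw [e2, e3, e4, e7, e8, e15, e30, e31]

theorem w_pow : w ^ 5 = 1 := by
  apply Units.ext
  have h : w ^ 5 = (w * w) * (w * w) * w := by
    simp only [pow_succ, pow_zero, one_mul, mul_assoc]
  rw [h]
  show (f1 * f1) * (f1 * f1) * f1 = 1
  rw [g2, g4, g5]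

theorem w_y : w * y * w⁻¹ = y ^ 2 := by
  rw [mul_inv_eq_iff_eq_mul]
  apply Units.ext
  rw [pow_two]
  show f1 * m1 = m1 * m1 * f1
  rw [e2, gm]

theorem y_ne : y ≠ 1 := fun h => e_ne (congrArg Units.val h)

/-- powers of the companion matrix of `x³ + x + 1` -/
def c1 : M5 := !![0,0,1,0,0; 1,0,1,0,0; 0,1,0,0,0; 0,0,0,1,0; 0,0,0,0,1]
def c2 : M5 := !![0,1,0,0,0; 0,1,1,0,0; 1,0,1,0,0; 0,0,0,1,0; 0,0,0,0,1]
def c4 : M5 := !![0,1,1,0,0; 1,1,0,0,0; 1,1,1,0,0; 0,0,0,1,0; 0,0,0,0,1]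
def c6 : M5 := !![1,1,0,0,0; 0,0,1,0,0; 1,0,0,0,0; 0,0,0,1,0; 0,0,0,0,1]
/-- a transvection commuting with it -/
def d1 : M5 := !![1,0,0,0,0; 0,1,0,0,0; 0,0,1,0,0; 0,0,0,1,1; 0,0,0,0,1]

theorem k2 : c1 * c1 = c2 := by decide +kernel
theorem k4 : c2 * c2 = c4 := by decide +kernel
theorem k6 : c4 * c2 = c6 := by decide +kernel
theorem k7 : c6 * c1 = 1 := by decide +kernel
theorem k7' : c1 * c6 = 1 := by decide +kernel
theorem k_ne : c1 ≠ 1 := by decide +kernel
theorem d_sq : d1 * d1 = 1 := by decide +kernel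
theorem d_ne : d1 ≠ 1 := by decide +kernel
theorem dk : d1 * c1 = c1 * d1 := by decide +kernel

def s7 : G5 := ⟨c1, c6, k7', k7⟩
def t2 : G5 := ⟨d1, d1, d_sq, d_sq⟩

theorem orderOf_s7 : orderOf s7 = 7 := by
  have : Fact (Nat.Prime 7) := ⟨by norm_num⟩
  refine orderOf_eq_prime ?_ (fun h => k_ne (congrArg Units.val h))
  apply Units.ext
  have h : s7 ^ 7 = (s7 * s7) * (s7 * s7) * (s7 * s7) * s7 := by
    simp only [pow_succ, pow_zero, one_mul, mul_assoc]
  rw [h]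
  show (c1 * c1) * (c1 * c1) * (c1 * c1) * c1 = 1
  rw [k2, k4, k6, k7]

theorem orderOf_t2 : orderOf t2 = 2 := by
  have : Fact (Nat.Prime 2) := ⟨Nat.prime_two⟩
  refine orderOf_eq_prime ?_ (fun h => d_ne (congrArg Units.val h))
  apply Units.ext
  rw [pow_two]
  exact d_sq

theorem t2_s7 : t2 * s7 = s7 * t2 := Units.ext dk

instance fact31 : Fact (Nat.Prime 31) := ⟨by norm_num⟩

theorem orderOf_y : orderOf y = 31 := orderOf_eq_prime y_pow y_ne

/-- transvections -/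
def t (c : ZMod 2 × ZMod 2 × ZMod 2) : M5 :=
  !![1,0,0,0,c.1; 0,1,0,0,c.2.1; 0,0,1,0,c.2.2; 0,0,0,1,0; 0,0,0,0,1]

theorem t_mul : ∀ c d, t c * t d = t (c + d) := by decide +kernel

theorem t_zero : t 0 = 1 := by decide +kernel

theorem t_inj : ∀ c d, t c = t d → c = d := by decide +kernel

theorem t_self (c : ZMod 2 × ZMod 2 × ZMod 2) : c + c = 0 := by
  revert c; decide

def tt (c : ZMod 2 × ZMod 2 × ZMod 2) : G5 :=
  ⟨t c, t c, by rw [t_mul, t_self, t_zero], by rw [t_mul, t_self, t_zero]⟩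

/-- as a homomorphism -/
def ttHom : Multiplicative (ZMod 2 × ZMod 2 × ZMod 2) →* G5 where
  toFun c := tt c.toAdd
  map_one' := Units.ext t_zero
  map_mul' c d := Units.ext (t_mul c.toAdd d.toAdd).symm

theorem ttHom_inj : Function.Injective ttHom := fun c d h =>
  t_inj c.toAdd d.toAdd (congrArg Units.val h)

theorem rank_two : PRankAtLeast 2 3 G5 := by
  refine ⟨ttHom.range, ⟨⟨?_⟩⟩, ?_, ?_⟩
  · rintro ⟨_, a, rfl⟩ ⟨_, b, rfl⟩
    apply Subtype.ext
    show ttHom a * ttHom b = ttHom b * ttHom a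
    rw [← map_mul, ← map_mul, mul_comm]
  · rintro _ ⟨a, rfl⟩
    rw [← map_pow]
    have : a ^ 2 = 1 := by
      rw [pow_two]
      exact t_self a.toAdd
    rw [this, map_one]
  · rw [← Nat.card_congr (MonoidHom.ofInjective ttHom_inj).toEquiv]
    have : Nat.card (Multiplicative (ZMod 2 × ZMod 2 × ZMod 2)) = 8 := by
      rw [Nat.card_congr Multiplicative.toAdd, Nat.card_prod, Nat.card_prod, Nat.card_zmod]
    rw [this]; norm_num

theorem simple : IsSimpleGroup G5 := by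
  obtain ⟨e⟩ := H168.psl_equiv_gl (F := ZMod 2) (ZMod.card 2) 5
  have := S0249.result (F := ZMod 2) 5 (by norm_num)
  have hn : Nontrivial G5 := ⟨⟨y, 1, y_ne⟩⟩
  exact IsSimpleGroup.isSimpleGroup_of_surjective e.toMonoidHom e.surjective

theorem card_aut : Nat.card (MulAut G5) = 2 * 9999360 := by
  obtain ⟨e⟩ := H168.psl_equiv_gl (F := ZMod 2) (ZMod.card 2) 5
  have e1 : MulAut (Matrix.ProjectiveSpecialLinearGroup (Fin 5) (ZMod 2)) ≃ MulAut G5 := (MulAut.congr e).toEquiv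
  rw [← Nat.card_congr e1, ClassicalGeometry.AutPSL.Main.card_three 2 (by norm_num)]
  have h1 : Nat.card (Matrix.ProjGenLinGroup (Fin 5) (ZMod 2)) = 9999360 := by
    have hc : Subgroup.center G5 = ⊥ := by
      have hs := simple
      rcases hs.eq_bot_or_eq_top_of_normal (center G5) inferInstance with h | h
      · exact h
      · exfalso
        have h2 : y ∈ center G5 := by rw [h]; trivial
        have h3 : w * y = y * w := mem_center_iff.1 h2 w
        have h4 := w_y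
        rw [h3, mul_inv_cancel_right] at h4
        have h5 : y = 1 := by
          have : y * 1 = y * y := by rw [mul_one, ← pow_two]; exact h4
          exact (mul_left_cancel this).symm
        exact y_ne h5
    rw [← H304.GL52.card_gl]
    have e3 : Nat.card (Matrix.ProjGenLinGroup (Fin 5) (ZMod 2)) = (center G5).index := rfl
    rw [e3, hc, index_bot]
  have h2 : Nat.card (ZMod 2 ≃+* ZMod 2) = 1 := by
    rw [Nat.card_eq_one_iff_unique]
    exact ⟨⟨fun a b => Subsingleton.elim a b⟩, ⟨RingEquiv.refl _⟩⟩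
  rw [h1, h2, mul_one]

theorem e9 : ∃ A : Subgroup G5, IsElementaryAbelian 3 A ∧ Nat.card A = 9 := by
  refine ⟨H304.GL52.E, ⟨⟨⟨?_⟩⟩, H304.GL52.E_cube⟩, ?_⟩
  · rintro ⟨_, i, j, rfl⟩ ⟨_, k, l, rfl⟩
    apply Subtype.ext
    show H304.GL52.A ^ i * H304.GL52.B ^ j * (H304.GL52.A ^ k * H304.GL52.B ^ l) =
      H304.GL52.A ^ k * H304.GL52.B ^ l * (H304.GL52.A ^ i * H304.GL52.B ^ j)
    have h : Commute H304.GL52.A H304.GL52.B := H304.GL52.hAB
    have h1 : Commute (H304.GL52.A ^ i) (H304.GL52.A ^ k) := (Commute.refl _).pow_pow i k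
    have h2 : Commute (H304.GL52.B ^ j) (H304.GL52.B ^ l) := (Commute.refl _).pow_pow j l
    exact ((h1.mul_right (h.pow_pow i l)).mul_left ((h.symm.pow_pow j k).mul_right h2)).eq
  · have h3 : IsPGroup 3 ↥H304.GL52.E := fun e => ⟨1, Subtype.ext (by
      simpa using H304.GL52.E_cube e e.2)⟩
    have : Fact (Nat.Prime 3) := ⟨Nat.prime_three⟩
    obtain ⟨k, hk⟩ := IsPGroup.iff_card.1 h3
    have h4 := H304.GL52.card_E
    have h5 : 3 ^ k ∣ 9999360 := by
      rw [← hk, ← H304.GL52.card_gl]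
      exact card_subgroup_dvd_card _
    have h6 : k ≤ 2 := by
      by_contra h
      push Not at h
      have : 3 ^ 3 ∣ 9999360 := (pow_dvd_pow 3 (by omega : 3 ≤ k)).trans h5
      norm_num at this
    rw [hk] at h4 ⊢
    have h7 : 2 ≤ k := by
      by_contra h
      push Not at h
      interval_cases k <;> omega
    have h8 : k = 2 := by omega
    rw [h8]; norm_num

theorem facts : Facts G5 where
  card := H304.GL52.card_gl
  simple := simple
  na := ⟨w, y, fun h => by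
    have h4 := w_y
    rw [h, mul_inv_cancel_right] at h4
    have h5 : y = 1 := by
      have : y * 1 = y * y := by rw [mul_one, ← pow_two]; exact h4
      exact (mul_left_cancel this).symm
    exact y_ne h5⟩
  yw := ⟨y, w, orderOf_y, w_pow, w_y⟩
  ts := ⟨t2, s7, orderOf_t2, orderOf_s7, t2_s7⟩
  e9 := e9
  e8 := rank_two
  aut := by rw [card_aut]; norm_num
  aut11 := by rw [card_aut]; norm_num

end GLFive

/-! ### transport -/

theorem prank_map {G H : Type*} [Group G] [Group H] {p k : ℕ} (f : H →* G) (hf : Function.Injective f)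
    (h : PRankAtLeast p k H) : PRankAtLeast p k G := by
  obtain ⟨A, hA, hp, hc⟩ := h
  refine ⟨A.map f, ⟨⟨?_⟩⟩, ?_, ?_⟩
  · rintro ⟨_, a, ha, rfl⟩ ⟨_, b, hb, rfl⟩
    apply Subtype.ext
    show f a * f b = f b * f a
    rw [← map_mul, ← map_mul]
    congr 1
    exact congrArg Subtype.val (hA.is_comm.comm (⟨a, ha⟩ : A) ⟨b, hb⟩)
  · rintro _ ⟨a, ha, rfl⟩
    rw [← map_pow, hp a ha, map_one]
  · rwa [Nat.card_congr (A.equivMapOfInjective f hf).symm.toEquiv]

theorem Facts.congr {L M : Type*} [Group L] [Group M] (e : L ≃* M) (h : Facts M) : Facts L where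
  card := by rw [Nat.card_congr e.toEquiv, h.card]
  simple := by
    have := h.simple
    have hn : Nontrivial L := e.toEquiv.nontrivial
    exact IsSimpleGroup.isSimpleGroup_of_surjective e.symm.toMonoidHom e.symm.surjective
  na := by
    obtain ⟨a, b, hab⟩ := h.na
    exact ⟨e.symm a, e.symm b, fun h1 => hab (e.symm.injective (by rw [map_mul, map_mul, h1]))⟩
  yw := by
    obtain ⟨y, w, hy, hw, hwy⟩ := h.yw
    refine ⟨e.symm y, e.symm w, ?_, ?_, ?_⟩
    · rw [← hy]; exact orderOf_injective e.symm.toMonoidHom e.symm.injective y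
    · rw [← map_pow, hw, map_one]
    · rw [← map_inv, ← map_mul, ← map_mul, hwy, map_pow]
  ts := by
    obtain ⟨t, s, ht, hs, hts⟩ := h.ts
    refine ⟨e.symm t, e.symm s, ?_, ?_, ?_⟩
    · rw [← ht]; exact orderOf_injective e.symm.toMonoidHom e.symm.injective t
    · rw [← hs]; exact orderOf_injective e.symm.toMonoidHom e.symm.injective s
    · rw [← map_mul, hts, map_mul]
  e9 := by
    obtain ⟨A, ⟨hA, hA3⟩, hc⟩ := h.e9
    refine ⟨A.map e.symm.toMonoidHom, ⟨⟨⟨?_⟩⟩, ?_⟩, ?_⟩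
    · rintro ⟨_, a, ha, rfl⟩ ⟨_, b, hb, rfl⟩
      apply Subtype.ext
      show e.symm a * e.symm b = e.symm b * e.symm a
      rw [← map_mul, ← map_mul]
      congr 1
      exact congrArg Subtype.val (hA.is_comm.comm (⟨a, ha⟩ : A) ⟨b, hb⟩)
    · rintro _ ⟨a, ha, rfl⟩
      rw [← map_pow, hA3 a ha, map_one]
    · rw [← hc]
      exact (Nat.card_congr (A.equivMapOfInjective e.symm.toMonoidHom e.symm.injective).toEquiv).symm
  e8 := prank_map e.symm.toMonoidHom e.symm.injective h.e8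
  aut := by
    rw [Nat.card_congr (MulAut.congr e).toEquiv]
    exact h.aut
  aut11 := by
    rw [Nat.card_congr (MulAut.congr e).toEquiv]
    exact h.aut11

end Cfsg.Agent.H439.LSeven
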