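import Mathlib
import Cfsg.Agent.H439.LSeven.Facts
import Cfsg.Agent.ETable.Base

/-!
# The configuration of S3731 (helper439)
-/

set_option autoImplicit false
set_option linter.unusedSectionVars false

namespace Cfsg.Agent.H439.LSeven

open Subgroup Cfsg

/-- the configuration -/
structure Core (G : Type*) [Group G] (b : G) (L : Subgroup G) : Prop where
  hb : orderOf b = 3
  le : ∀ l ∈ L, l * b = b * l
  nrm : ∀ g : G, g * b = b * g → ∀ l ∈ L, g * l * g⁻¹ ∈ L
  facts : Facts ↥L
  rank : TwoLocalPRankLE 3 3 G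
  not2 : ¬ TwoLocalPRankLE 3 2 G

variable {G : Type*} [Group G] {b : G} {L : Subgroup G}

theorem exists_yw (h : Facts ↥L) : ∃ y ∈ L, ∃ w ∈ L, orderOf y = 31 ∧ w ^ 5 = 1 ∧ w * y * w⁻¹ = y ^ 2 := by
  obtain ⟨y, w, hy, hw, hwy⟩ := h.yw
  refine ⟨y, y.2, w, w.2, ?_, ?_, ?_⟩
  · rw [Subgroup.orderOf_coe]; exact hy
  · exact congrArg Subtype.val hw
  · exact congrArg Subtype.val hwy

theorem dvd_card [Finite G] (h : Facts ↥L) : 9999360 ∣ Nat.card G := by
  rw [← h.card]; exact card_subgroup_dvd_card L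

theorem dvd_card' [Finite G] (h : Facts ↥L) {n : ℕ} (hn : n ∣ 9999360) : n ∣ Nat.card G := hn.trans (dvd_card h)

theorem rank_two (h : Facts ↥L) : PRankAtLeast 2 3 G := prank_map L.subtype L.subtype_injective h.e8

/-- commutative subgroups of exponent 3 of a group with cyclic Sylow 3-subgroups have order at most 3 -/
theorem card_le_three {X : Type*} [Group X] [Finite X] (h : ∀ R : Sylow 3 X, IsCyclic ↥R) (B : Subgroup X)
    (hB : ∀ a ∈ B, a ^ 3 = 1) : Nat.card B ≤ 3 := by
  have : Fact (Nat.Prime 3) := ⟨Nat.prime_three⟩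
  have hp : IsPGroup 3 B := fun g => ⟨1, Subtype.ext (by
    rw [pow_one]
    exact hB g.1 g.2)⟩
  obtain ⟨R, hR⟩ := hp.exists_le_sylow
  have hcy := h R
  have h1 : IsCyclic B := isCyclic_of_injective (Subgroup.inclusion hR) (Subgroup.inclusion_injective hR)
  obtain ⟨g, hg⟩ := h1.exists_generator
  have h2 : Nat.card B = orderOf g := by
    rw [← Nat.card_zpowers]
    have : zpowers g = ⊤ := by
      rw [eq_top_iff]
      intro x _
      exact hg x
    rw [this, Subgroup.card_top]
  have h3 : g ^ 3 = 1 := Subtype.ext (hB g.1 g.2)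
  rw [h2]
  exact orderOf_le_of_pow_eq_one (by norm_num) h3

section

variable [Finite G]

theorem rank_upper (hle : L ≤ centralizer ({b} : Set G)) (hn : (L.subgroupOf (centralizer ({b} : Set G))).Normal)
    (hf : Facts ↥L) (hcyc : ∀ R : Sylow 3 ↥(centralizer (L : Set G)), IsCyclic ↥R) :
    PRankLE 3 3 ↥(centralizer ({b} : Set G)) := by
  have : Fact (Nat.Prime 3) := ⟨Nat.prime_three⟩
  intro A hA hA3
  set X := ↥(centralizer ({b} : Set G))
  set N : Subgroup X := L.subgroupOf (centralizer ({b} : Set G)) with hN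
  have hNf : Facts ↥N := Facts.congr (subgroupOfEquivOfLe hle) hf
  let f : ↥A →* MulAut ↥N := (MulAut.conjNormal (H := N)).comp A.subtype
  have hAp : IsPGroup 3 ↥A := fun g => ⟨1, Subtype.ext (by
    rw [pow_one]
    exact hA3 g.1 g.2)⟩
  have hfinN : Finite ↥N := inferInstance
  have hfinA : Finite (MulAut ↥N) := Finite.of_injective (fun φ : MulAut ↥N => (φ : ↥N → ↥N)) DFunLike.coe_injective
  have h1 : Nat.card f.range ≤ 9 := by
    have hp : IsPGroup 3 ↥f.range := hAp.of_surjective f.rangeRestrict f.rangeRestrict_surjective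
    obtain ⟨k, hk⟩ := IsPGroup.iff_card.1 hp
    have h2 : 3 ^ k ∣ Nat.card (MulAut ↥N) := by
      rw [← hk]; exact card_subgroup_dvd_card _
    have h3 : k ≤ 2 := by
      by_contra h
      push Not at h
      exact hNf.aut ((pow_dvd_pow 3 (by omega : 3 ≤ k)).trans h2)
    rw [hk]
    calc 3 ^ k ≤ 3 ^ 2 := Nat.pow_le_pow_right (by norm_num) h3
      _ = 9 := by norm_num
  have h2 : Nat.card f.ker ≤ 3 := by
    set B : Subgroup G := (f.ker.map A.subtype).map (centralizer ({b} : Set G)).subtype with hB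
    have hBc : Nat.card B = Nat.card f.ker := by
      rw [hB, Subgroup.card_map_of_injective (subtype_injective _), Subgroup.card_map_of_injective (subtype_injective _)]
    have hBL : B ≤ centralizer (L : Set G) := by
      rintro _ ⟨_, ⟨a, ha, rfl⟩, rfl⟩
      rw [mem_centralizer_iff]
      intro l hl
      have h3 : f a = 1 := ha
      have h4 := congrArg (fun φ : MulAut ↥N => ((φ ⟨⟨l, hle hl⟩, hl⟩ : ↥N) : X)) h3
      have h5 : (a : X) * ⟨l, hle hl⟩ * (a : X)⁻¹ = ⟨l, hle hl⟩ := by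
        have h5 := MulAut.conjNormal_apply (H := N) (a : X) ⟨⟨l, hle hl⟩, hl⟩
        exact h5.symm.trans h4
      have h6 := congrArg Subtype.val h5
      have h7 : ((a : X) : G) * l * ((a : X) : G)⁻¹ = l := h6
      exact (mul_inv_eq_iff_eq_mul.1 h7).symm
    rw [← hBc, ← Nat.card_congr (subgroupOfEquivOfLe hBL).toEquiv]
    apply card_le_three hcyc
    rintro u ⟨_, ⟨a, ha, rfl⟩, hu⟩
    apply Subtype.ext
    have e1 : (u : G) = ((a : X) : G) := hu.symm
    rw [Subgroup.coe_pow, e1]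
    exact congrArg Subtype.val (hA3 a.1 a.2)
  rw [← Subgroup.card_mul_index f.ker, Subgroup.index_ker]
  calc Nat.card f.ker * Nat.card f.range ≤ 3 * 9 := Nat.mul_le_mul h2 h1
    _ = 3 ^ 3 := by norm_num

theorem rank_lower (hb : orderOf b = 3) (hle : L ≤ centralizer ({b} : Set G)) (hf : Facts ↥L) :
    ¬ PRankLE 3 2 ↥(centralizer ({b} : Set G)) := by
  intro hr
  have : Fact (Nat.Prime 3) := ⟨Nat.prime_three⟩
  obtain ⟨A, ⟨hA, hA3⟩, hAc⟩ := hf.e9
  have hb3 : b ^ 3 = 1 := by rw [← hb]; exact pow_orderOf_eq_one b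
  have hbL : b ∉ L := by
    intro h
    have h1 : (⟨b, h⟩ : L) ∈ center L := by
      rw [mem_center_iff]
      intro g
      apply Subtype.ext
      exact (mem_centralizer_singleton_iff.1 (hle g.2))
    have hs := hf.simple
    rcases hs.eq_bot_or_eq_top_of_normal (center ↥L) inferInstance with h2 | h2
    · rw [h2, mem_bot] at h1
      have h3 : b = 1 := congrArg Subtype.val h1
      rw [h3, orderOf_one] at hb
      norm_num at hb
    · obtain ⟨x, y, hxy⟩ := hf.na
      apply hxy
      have : y ∈ center ↥L := by rw [h2]; trivial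
      exact mem_center_iff.1 this x
  set A' : Subgroup G := A.map L.subtype with hA'
  have hA'L : A' ≤ L := by rintro _ ⟨a, _, rfl⟩; exact a.2
  have hA'c : Nat.card A' = 9 := by
    rw [hA', Subgroup.card_map_of_injective (subtype_injective _), hAc]
  have hdis : A' ⊓ zpowers b = ⊥ := by
    have h1 : Nat.card ↥(zpowers b) = 3 := by rw [Nat.card_zpowers, hb]
    have h2 : Nat.card ↥(A' ⊓ zpowers b) ∣ 3 := by
      rw [← h1]; exact card_dvd_of_le inf_le_right
    rcases (Nat.dvd_prime Nat.prime_three).1 h2 with h3 | h3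
    · exact Subgroup.card_eq_one.1 h3
    · exfalso
      have h4 : A' ⊓ zpowers b = zpowers b := eq_of_le_of_card_ge inf_le_right (by rw [h3, h1])
      have h5 : b ∈ A' ⊓ zpowers b := by rw [h4]; exact mem_zpowers b
      exact hbL (hA'L h5.1)
  have hcom : ∀ a ∈ A', ∀ c ∈ zpowers b, a * c = c * a := by
    intro a ha c hc
    obtain ⟨k, rfl⟩ := mem_zpowers_iff.1 hc
    have h1 : Commute a b := mem_centralizer_singleton_iff.1 (hle (hA'L ha))
    exact (h1.zpow_right k).eq
  have hAcom : ∀ a ∈ A', ∀ c ∈ A', a * c = c * a := by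
    rintro _ ⟨a, ha, rfl⟩ _ ⟨c, hc, rfl⟩
    have := congrArg (fun z : A => ((z : L) : G)) (hA.is_comm.comm (⟨a, ha⟩ : A) ⟨c, hc⟩)
    exact this
  have hA'3 : ∀ a ∈ A', a ^ 3 = 1 := by
    rintro _ ⟨a, ha, rfl⟩
    exact congrArg Subtype.val (hA3 a ha)
  have hz3 : ∀ c ∈ zpowers b, c ^ 3 = 1 := by
    intro c hc
    obtain ⟨k, rfl⟩ := mem_zpowers_iff.1 hc
    rw [← zpow_natCast, ← zpow_mul, mul_comm, zpow_mul, zpow_natCast, hb3, one_zpow]
  -- the product
  let g : ↥A' × ↥(zpowers b) →* G := 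
    { toFun := fun x => x.1 * x.2
      map_one' := by simp
      map_mul' := by
        rintro ⟨a, c⟩ ⟨a', c'⟩
        show (a : G) * a' * (c * c') = a * c * (a' * c')
        have := hcom a' a'.2 c c.2
        calc (a : G) * a' * (c * c') = a * (a' * c) * c' := by group
          _ = a * (c * a') * c' := by rw [this]
          _ = a * c * (a' * c') := by group }
  have hg : Function.Injective g := by
    rw [injective_iff_map_eq_one]
    rintro ⟨a, c⟩ h
    have h1 : (a : G) * c = 1 := h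
    have h2 : (a : G) = (c : G)⁻¹ := eq_inv_of_mul_eq_one_left h1
    have h3 : (a : G) ∈ A' ⊓ zpowers b := ⟨a.2, by rw [h2]; exact (zpowers b).inv_mem c.2⟩
    rw [hdis, mem_bot] at h3
    rw [h3, one_mul] at h1
    exact Prod.ext (Subtype.ext h3) (Subtype.ext h1)
  have hgC : g.range ≤ centralizer ({b} : Set G) := by
    rintro _ ⟨⟨a, c⟩, rfl⟩
    exact mul_mem (hle (hA'L a.2)) ((zpowers_le.2 (mem_centralizer_singleton_iff.2 rfl)) c.2)
  have hgc : Nat.card ↥g.range = 27 := by
    rw [← Nat.card_congr (MonoidHom.ofInjective hg).toEquiv, Nat.card_prod, hA'c, Nat.card_zpowers, hb]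
  have h1 := hr (g.range.subgroupOf (centralizer ({b} : Set G))) ?_ ?_
  · rw [Nat.card_congr (subgroupOfEquivOfLe hgC).toEquiv, hgc] at h1
    norm_num at h1
  · refine ⟨⟨fun u v => ?_⟩⟩
    obtain ⟨⟨a, c⟩, hac⟩ := u.2
    obtain ⟨⟨a', c'⟩, hac'⟩ := v.2
    apply Subtype.ext
    apply Subtype.ext
    have e1 : ((u : ↥(centralizer ({b} : Set G))) : G) = g (a, c) := hac.symm
    have e2 : ((v : ↥(centralizer ({b} : Set G))) : G) = g (a', c') := hac'.symm
    show ((u : ↥(centralizer ({b} : Set G))) : G) * ((v : ↥(centralizer ({b} : Set G))) : G) =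
      ((v : ↥(centralizer ({b} : Set G))) : G) * ((u : ↥(centralizer ({b} : Set G))) : G)
    rw [e1, e2, ← map_mul, ← map_mul]
    congr 1
    refine Prod.ext (Subtype.ext (hAcom _ a.2 _ a'.2)) (Subtype.ext ?_)
    obtain ⟨k, hk⟩ := mem_zpowers_iff.1 c.2
    obtain ⟨l, hl⟩ := mem_zpowers_iff.1 c'.2
    show (c : G) * c' = c' * c
    rw [← hk, ← hl]
    exact ((Commute.refl b).zpow_zpow k l).eq
  · rintro u ⟨⟨a, c⟩, hac⟩
    apply Subtype.ext
    have e1 : (u : G) = g (a, c) := hac.symm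
    rw [Subgroup.coe_pow, e1, ← map_pow]
    have : ((a, c) : ↥A' × ↥(zpowers b)) ^ 3 = 1 := Prod.ext (Subtype.ext (hA'3 _ a.2)) (Subtype.ext (hz3 _ c.2))
    rw [this, map_one]
    rfl

/-- the configuration from the hypotheses of S3731 -/
theorem Core.of (hb : orderOf b = 3) (hle : L ≤ centralizer ({b} : Set G))
    (hn : (L.subgroupOf (centralizer ({b} : Set G))).Normal) (hf : Facts ↥L)
    (hcyc : ∀ R : Sylow 3 ↥(centralizer (L : Set G)), IsCyclic ↥R)
    (hrk : ∀ k : ℕ, TwoLocalPRankLE 3 k G ↔ PRankLE 3 k ↥(centralizer ({b} : Set G))) : Core G b L where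
  hb := hb
  le := fun l hl => mem_centralizer_singleton_iff.1 (hle hl)
  nrm := by
    intro g hg l hl
    have h1 := hn.conj_mem ⟨l, hle hl⟩ hl ⟨g, mem_centralizer_singleton_iff.2 hg⟩
    exact h1
  facts := hf
  rank := (hrk 3).2 (rank_upper hle hn hf hcyc)
  not2 := fun h => rank_lower hb hle hf ((hrk 2).1 h)

end

/-! ### transport -/

theorem twoLocal_of_injective {G H : Type*} [Group G] [Group H] {p k : ℕ} (f : H →* G)
    (hf : Function.Injective f) (h : TwoLocalPRankLE p k G) : TwoLocalPRankLE p k H := by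
  rintro _ ⟨T, hT, hT1, rfl⟩ A hA hA3
  have h1 := h (normalizer ((T.map f : Subgroup G) : Set G)) ⟨T.map f, hT.map f, fun h0 => hT1
    ((Subgroup.map_eq_bot_iff_of_injective _ hf).1 h0), rfl⟩
    ((((A.map (normalizer (T : Set H)).subtype).map f)).subgroupOf (normalizer ((T.map f : Subgroup G) : Set G))) ?_ ?_
  · have hle : (A.map (normalizer (T : Set H)).subtype).map f ≤ normalizer ((T.map f : Subgroup G) : Set G) := by
      rintro _ ⟨_, ⟨a, ha, rfl⟩, rfl⟩
      have h2 := mem_normalizer_iff.1 a.2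
      rw [mem_normalizer_iff]
      intro x
      constructor
      · rintro ⟨t, ht, rfl⟩
        refine ⟨a * t * (a : H)⁻¹, (h2 t).1 ht, ?_⟩
        simp
      · rintro ⟨t, ht, htx⟩
        refine ⟨(a : H)⁻¹ * t * a, ?_, ?_⟩
        · apply (h2 _).2
          have e : (a : H) * ((a : H)⁻¹ * t * a) * (a : H)⁻¹ = t := by group
          show (a : H) * ((a : H)⁻¹ * t * a) * (a : H)⁻¹ ∈ (T : Set H)
          rw [e]; exact ht
        · rw [map_mul, map_mul, htx, map_inv]
          simp [mul_assoc]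
    rw [Nat.card_congr (subgroupOfEquivOfLe hle).toEquiv, Subgroup.card_map_of_injective hf,
      Subgroup.card_map_of_injective (subtype_injective _)] at h1
    exact h1
  · refine ⟨⟨fun u v => ?_⟩⟩
    obtain ⟨_, ⟨a, ha, rfl⟩, hu⟩ := u.2
    obtain ⟨_, ⟨c, hc, rfl⟩, hv⟩ := v.2
    apply Subtype.ext
    apply Subtype.ext
    have e1 : ((u : ↥(normalizer ((T.map f : Subgroup G) : Set G))) : G) = f (a : H) := hu.symm
    have e2 : ((v : ↥(normalizer ((T.map f : Subgroup G) : Set G))) : G) = f (c : H) := hv.symm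
    show ((u : ↥(normalizer ((T.map f : Subgroup G) : Set G))) : G) *
      ((v : ↥(normalizer ((T.map f : Subgroup G) : Set G))) : G) =
      ((v : ↥(normalizer ((T.map f : Subgroup G) : Set G))) : G) *
      ((u : ↥(normalizer ((T.map f : Subgroup G) : Set G))) : G)
    rw [e1, e2, ← map_mul, ← map_mul]
    congr 1
    exact congrArg (fun z : A => ((z : normalizer (T : Set H)) : H)) (hA.is_comm.comm (⟨a, ha⟩ : A) ⟨c, hc⟩)
  · rintro u ⟨_, ⟨a, ha, rfl⟩, hu⟩
    apply Subtype.ext
    have e1 : (u : G) = f (a : H) := hu.symm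
    rw [Subgroup.coe_pow, e1, ← map_pow, ← Subgroup.coe_pow, hA3 a ha]
    exact map_one f

theorem Core.congr {G H : Type*} [Group G] [Group H] {b : G} {L : Subgroup G} (h : Core G b L) (e : G ≃* H) :
    Core H (e b) (L.map e.toMonoidHom) where
  hb := by
    rw [← h.hb]; exact orderOf_injective e.toMonoidHom e.injective b
  le := by
    rintro _ ⟨l, hl, rfl⟩
    show e l * e b = e b * e l
    rw [← map_mul, h.le l hl, map_mul]
  nrm := by
    rintro g hg _ ⟨l, hl, rfl⟩
    refine ⟨e.symm g * l * (e.symm g)⁻¹, h.nrm _ ?_ l hl, ?_⟩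
    · apply e.injective
      rw [map_mul, map_mul, e.apply_symm_apply, hg]
    · show e (e.symm g * l * (e.symm g)⁻¹) = g * e l * g⁻¹
      rw [map_mul, map_mul, map_inv, e.apply_symm_apply]
  facts := Facts.congr (L.equivMapOfInjective e.toMonoidHom e.injective).symm h.facts
  rank := twoLocal_of_injective e.symm.toMonoidHom e.symm.injective h.rank
  not2 := fun h1 => h.not2 (twoLocal_of_injective e.toMonoidHom e.injective h1)

theorem Core.not_wit {k : ℕ} (h : Core G b L) (hk : 4 ≤ k) : ¬ ETable.Wit 3 k G := by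
  intro hw
  obtain ⟨T, E, hT, hT1, hE, hEp, hc, hn⟩ := hw
  exact ETable.Wit.not_twoLocal (by norm_num)
    ⟨T, E, hT, hT1, hE, hEp, (Nat.pow_le_pow_right (by norm_num) hk).trans hc, hn⟩ h.rank

end Cfsg.Agent.H439.LSeven
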