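import Mathlib
import Cfsg.Agent.Sigma.RowsExc

/-!
# `Wit 3 4` for `F₄(q)`, `3 ∣ q - 1`, and `²E₆(q)`, `q` even (helper439)

The second one is a copy of `twE6_four_split` of `Sigma/RowsExc` (helper33) for the prime 3.
-/

set_option autoImplicit false
set_option linter.unusedSectionVars false

namespace Cfsg.Agent.H439.LSeven.ExcWit

open Cfsg Cfsg.Lie Subgroup
open Cfsg.Agent.ChevalleyStructure Cfsg.Agent.ChevalleyStructure.Elts
open Cfsg.Agent.ChevalleyStructure.TorusConj Cfsg.Agent.ETable Cfsg.Agent.ETable.Exc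

universe u

/-- **`F4(q)`, `q` even, `3 ∣ q - 1`.** -/
theorem f4 (F : Type u) [Field F] [Finite F] (h2 : (2 : F) = 0) (hd : 3 ∣ Nat.card F - 1) :
    Wit 3 4 (chevF4.group F) := by
  obtain ⟨c, hc, hc1⟩ := exists_unit_of_dvd F Nat.prime_three hd
  have hc0 : c ≠ 0 := by
    rintro rfl
    rw [zero_pow Nat.prime_three.ne_zero] at hc
    exact zero_ne_one hc
  exact wit_torus inList_F4 (RingHom.id F) h2 Nat.prime_three (by norm_num) hc hc1 rfl (k := 4)
    (fun i => hG inList_F4 (chevF4.simple i) c) (fun i s => chevF4.cartan i s)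
    (fun i => tor_hG inList_F4 (f4_simple i) hc0) (fun i => hG_mem_group _ _ _) ![3, 2, 1, 0] f4_lt
    (fun i => xG_mem_group _ _ _) f4_tri f4_diag 0 (by decide) fun t _ => xG_mem_group _ _ _

variable {K : Type u} [Field K] {q : ℕ}

/-- the case `3 ∣ q - 1` : a split torus -/
theorem twE6_split [Finite K] {φ : K →+* K} (hφ : ∀ x, φ x = x ^ q) (h2 : (2 : K) = 0) (hK : Nat.card K = q ^ 2)
    (hq2 : 2 < q) (hd : 3 ∣ q - 1) : Wit 3 4 (twistedE6 K q) := by
  have hp := Nat.prime_three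
  have hd' : 3 ∣ Nat.card K - 1 := by
    rw [hK]
    have : q ^ 2 - 1 = (q - 1) * (q + 1) := by
      obtain ⟨k, rfl⟩ : ∃ k, q = k + 1 := ⟨q - 1, by omega⟩
      rw [Nat.add_sub_cancel]
      have : (k + 1) ^ 2 = k * (k + 1 + 1) + 1 := by ring
      omega
    rw [this]
    exact dvd_mul_of_dvd_left hd _
  obtain ⟨c, hc, hc1⟩ := exists_unit_of_dvd K hp hd'
  have hc0 : c ≠ 0 := by
    rintro rfl
    rw [zero_pow hp.ne_zero] at hc
    exact zero_ne_one hc
  have hφc : φ c = c := by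
    obtain ⟨k, hk⟩ := hd
    have h1 : c ^ (q - 1) = 1 := by rw [hk, pow_mul, hc, one_pow]
    have h3 : q = (q - 1) + 1 := by omega
    rw [hφ, h3, pow_succ, h1, one_mul]
  obtain ⟨s0, s1, s2, s3, s4, s5⟩ := tw_simple
  have hD := inList_E6
  have t0 := tor_hG' hD (tw_rank 0 (by norm_num)) s0 hc0
  have t1 := tor_hG' hD (tw_rank 1 (by norm_num)) s1 hc0
  have t2 := tor_hG' hD (tw_rank 2 (by norm_num)) s2 hc0
  have t3 := tor_hG' hD (tw_rank 3 (by norm_num)) s3 hc0
  have t4 := tor_hG' hD (tw_rank 4 (by norm_num)) s4 hc0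
  have t5 := tor_hG' hD (tw_rank 5 (by norm_num)) s5 hc0
  have m0 : hG hD 56 c * hG hD 36 c ∈ twistedE6 K q := by
    have := E6Fixed.h16_mem hφ c
    rwa [hφc] at this
  have m1 : hG hD 42 c * hG hD 37 c ∈ twistedE6 K q := by
    have := E6Fixed.h35_mem hφ c
    rwa [hφc] at this
  have m2 : hG hD 39 c ∈ twistedE6 K q := E6Fixed.h_single_mem hφ (by decide) (by decide) hφc
  have m3 : hG hD 46 c ∈ twistedE6 K q := E6Fixed.h_single_mem hφ (by decide) (by decide) hφc
  have hneg : (-1 : K) ^ q = -1 := by rw [← hφ, map_neg, map_one]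
  refine wit_torus hD φ h2 hp (by norm_num) hc hc1 hφc (k := 4)
    ![hG hD 56 c * hG hD 36 c, hG hD 42 c * hG hD 37 c, hG hD 39 c, hG hD 46 c] mTw ?_ ?_ ![44, 39, 46, 71]
    (fun i => (tw_fix i).1) (fun i => X_mem hneg (tw_fix i).1 (tw_fix i).2 (one_pow q)) tw_tri tw_diag 71
    (by decide) fun t ht => X_mem hneg (by decide) (by decide +kernel) (by rw [← hφ, ht])
  · intro i
    fin_cases i
    · exact t0.mul t5
    · exact t2.mul t4
    · exact t3
    · exact t1
  · intro i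
    fin_cases i
    · exact m0
    · exact m1
    · exact m2
    · exact m3

/-- **`²E6(q)`, `q` even.** -/
theorem twE6 (K : Type u) [Field K] [Finite K] (q : ℕ) (hq : IsPrimePow q) (h2 : (2 : K) = 0)
    (hK : Nat.card K = q ^ 2) : Wit 3 4 (twistedE6 K q) := by
  have := Fintype.ofFinite K
  have hK' : Fintype.card K = q ^ 2 := by rw [← Nat.card_eq_fintype_card, hK]
  obtain ⟨φ, hφ⟩ := TwistedE6Sigma.exists_frob hq two_ne_zero hK'
  have hqe : Even q := by
    have h1 := even_card K h2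
    rw [hK] at h1
    exact (Nat.even_pow.1 h1).1
  have hq1 := hq.one_lt
  obtain ⟨p, k, hp, hk, hpk⟩ := (isPrimePow_nat_iff q).1 hq
  have hp2 : p = 2 := by
    have h1 : 2 ∣ p ^ k := by rw [hpk]; exact hqe.two_dvd
    exact ((Nat.prime_dvd_prime_iff_eq Nat.prime_two hp).1 (Nat.prime_two.dvd_of_dvd_pow h1)).symm
  have h3 : ¬ 3 ∣ q := by
    rw [← hpk, hp2]
    intro h
    have := Nat.prime_three.dvd_of_dvd_pow h
    norm_num at this
  by_cases hd : 3 ∣ q - 1
  · refine twE6_split hφ h2 hK ?_ hd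
    by_contra h
    have h4 : q = 2 := by omega
    rw [h4] at hd
    norm_num at hd
  · have hd3 : 3 ∣ q + 1 := by omega
    obtain ⟨c, hc, hc1⟩ := exists_unit_of_dvd K Nat.prime_three (by
      rw [hK]
      have : q ^ 2 - 1 = (q - 1) * (q + 1) := by
        obtain ⟨k, rfl⟩ : ∃ k, q = k + 1 := ⟨q - 1, by omega⟩
        rw [Nat.add_sub_cancel]
        have : (k + 1) ^ 2 = k * (k + 1 + 1) + 1 := by ring
        omega
      rw [this]
      exact dvd_mul_of_dvd_right hd3 _)
    refine twE6_three_four hφ h2 hc hc1 ?_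
    have hc0 : c ≠ 0 := by
      rintro rfl
      rw [zero_pow (by norm_num)] at hc
      exact zero_ne_one hc
    rw [hφ]
    obtain ⟨m, hm⟩ := hd3
    exact eq_inv_of_mul_eq_one_left (by rw [← pow_succ, hm, pow_mul, hc, one_pow])

end Cfsg.Agent.H439.LSeven.ExcWit
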