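import Mathlib
import Cfsg.Agent.Sigma.RowsSpOm
import Cfsg.Agent.Sigma.RowsClass
import Cfsg.Agent.H439.LSeven.Eigen

/-!
# Elementary abelian subgroups of order 81 in 2-local subgroups of classical groups in characteristic 2 (helper439)

`Wit 3 4` for `PSL_n` (`n ≥ 8`, or `n ≥ 5` and `3 ∣ q - 1`), `PSp_{2m}` (`m ≥ 5`), `PSU_n` (`n ≥ 10`),
`PΩ^±_{2m}` (`m ≥ 5`).
-/

set_option autoImplicit false
set_option linter.unusedSectionVars false

namespace Cfsg.Agent.H439.LSeven.WitThree

open Cfsg Subgroup Matrix Cfsg.Agent.ETable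

theorem wit_center {Γ : Type*} [Group Γ] [Finite Γ] {k : ℕ} (h : Wit 3 k Γ)
    (h3 : Nat.Coprime 3 (Nat.card (center Γ))) (h2 : Nat.Coprime 2 (Nat.card (center Γ))) :
    Wit 3 k (Γ ⧸ center Γ) := by
  have f3 : Fact (Nat.Prime 3) := ⟨Nat.prime_three⟩
  obtain ⟨T, E, hT, hT1, hE, hEp, hc, hn⟩ := h
  have hEP : IsPGroup 3 E := fun g => ⟨1, Subtype.ext (by
    rw [pow_one]; exact hEp g.1 g.2)⟩
  have hinf : E ⊓ center Γ = ⊥ := by
    obtain ⟨a, ha⟩ := IsPGroup.iff_card.1 hEP
    apply Subgroup.inf_eq_bot_of_coprime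
    rw [ha]
    exact Nat.Coprime.pow_left a h3
  have hker : ∀ x ∈ E, (QuotientGroup.mk' (center Γ)) x = 1 → x = 1 := by
    intro x hx hx1
    rw [QuotientGroup.mk'_apply, QuotientGroup.eq_one_iff] at hx1
    have : x ∈ E ⊓ center Γ := ⟨hx, hx1⟩
    rwa [hinf, mem_bot] at this
  refine ⟨T.map (QuotientGroup.mk' (center Γ)), E.map (QuotientGroup.mk' (center Γ)), hT.map _, ?_, ?_, ?_, ?_, ?_⟩
  · intro h0
    apply hT1
    rw [Subgroup.map_eq_bot_iff, QuotientGroup.ker_mk'] at h0
    obtain ⟨a, ha⟩ := IsPGroup.iff_card.1 hT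
    have h4 : Nat.card T ∣ Nat.card (center Γ) := card_dvd_of_le h0
    have h5 : Nat.Coprime (Nat.card T) (Nat.card (center Γ)) := by
      rw [ha]; exact Nat.Coprime.pow_left a h2
    have h6 : Nat.card T = 1 := by
      have := Nat.Coprime.eq_one_of_dvd h5 h4
      exact this
    exact Subgroup.card_eq_one.1 h6
  · refine ⟨⟨?_⟩⟩
    rintro ⟨_, a, ha, rfl⟩ ⟨_, b, hb, rfl⟩
    apply Subtype.ext
    show QuotientGroup.mk' (center Γ) a * QuotientGroup.mk' (center Γ) b =
      QuotientGroup.mk' (center Γ) b * QuotientGroup.mk' (center Γ) a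
    rw [← map_mul, ← map_mul]
    congr 1
    exact congrArg (fun z : E => (z : Γ)) (hE.is_comm.comm (⟨a, ha⟩ : E) ⟨b, hb⟩)
  · rintro _ ⟨a, ha, rfl⟩
    rw [← map_pow, hEp a ha, map_one]
  · refine hc.trans (le_of_eq ?_)
    refine Nat.card_congr (Equiv.ofBijective
      (fun e : E => (⟨QuotientGroup.mk' (center Γ) e, e, e.2, rfl⟩ : E.map (QuotientGroup.mk' (center Γ)))) ⟨?_, ?_⟩)
    · intro a b hab
      have h7 : (QuotientGroup.mk' (center Γ)) a = (QuotientGroup.mk' (center Γ)) b := congrArg Subtype.val hab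
      have h8 : (QuotientGroup.mk' (center Γ)) ((a : Γ) * (b : Γ)⁻¹) = 1 := by
        rw [map_mul, map_inv, h7, mul_inv_cancel]
      exact Subtype.ext (mul_inv_eq_one.1 (hker _ (mul_mem a.2 (inv_mem b.2)) h8))
    · rintro ⟨_, a, ha, rfl⟩
      exact ⟨⟨a, ha⟩, rfl⟩
  · refine (Subgroup.map_mono hn).trans ?_
    exact Subgroup.le_normalizer_map _

/-! ### linear groups -/

section psl

variable {F : Type*} [Field F] [Fintype F] [CharP F 2]

theorem card_center (n : ℕ) (hn : 1 ≤ n) : Nat.card (center (Matrix.SpecialLinearGroup (Fin n) F)) =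
    Nat.gcd n (Fintype.card F - 1) := by
  have : Nonempty (Fin n) := ⟨⟨0, by omega⟩⟩
  rw [Nat.card_congr (Matrix.SpecialLinearGroup.center_equiv_rootsOfUnity'
      (n := Fin n) (R := F) ⟨0, by omega⟩).toEquiv, rootsOfUnity_eq_ker,
      IsCyclic.card_powMonoidHom_ker, Nat.card_units, Nat.card_eq_fintype_card, Fintype.card_fin,
      Nat.gcd_comm]

theorem even_card : Even (Fintype.card F) := by
  have h2 : (2 : ℕ) ∣ Fintype.card F := by
    rw [← CharP.cast_eq_zero_iff F 2 (Fintype.card F)]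
    exact Nat.cast_card_eq_zero F
  exact even_iff_two_dvd.2 h2

theorem two_zero : (2 : F) = 0 := CharTwo.two_eq_zero

theorem exists_three (h : 3 ∣ Fintype.card F - 1) : ∃ a : Fˣ, a ^ 3 = 1 ∧ a ≠ 1 := by
  have hcard : Nat.card Fˣ = Fintype.card F - 1 := by
    rw [Nat.card_units, Nat.card_eq_fintype_card]
  have : Fact (Nat.Prime 3) := ⟨Nat.prime_three⟩
  obtain ⟨c, hc⟩ := exists_prime_orderOf_dvd_card' 3 (by rw [hcard]; exact h)
  refine ⟨c, by rw [← hc, pow_orderOf_eq_one], ?_⟩
  rintro rfl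
  rw [orderOf_one] at hc
  norm_num at hc

/-- `PSL_n(q)`, `3 ∣ q - 1`, `n ≥ 5` -/
theorem psl_split {n : ℕ} (hn : 5 ≤ n) (h : 3 ∣ Fintype.card F - 1) :
    Wit 3 4 (Matrix.ProjectiveSpecialLinearGroup (Fin n) F) := by
  obtain ⟨a, ha, ha1⟩ := exists_three h
  by_cases hn6 : 6 ≤ n
  · exact Sigma.Psl.torus_six two_zero Nat.prime_three a ha ha1 hn6
  · have hn5 : n = 5 := by omega
    refine Sigma.Psl.torus_scalar two_zero Nat.prime_three a (by rw [mul_comm, pow_mul, ha, one_pow]) ?_ hn
    rw [hn5]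
    intro h8
    apply ha1
    calc a = a ^ 5 * a ^ 5 * (a ^ 3)⁻¹ * (a ^ 3)⁻¹ * (a ^ 3)⁻¹ := by group
      _ = 1 := by rw [h8, ha]; simp

/-- `PSL_n(q)`, `n ≥ 8` -/
theorem psl_eight {n : ℕ} (hn : 8 ≤ n) : Wit 3 4 (Matrix.ProjectiveSpecialLinearGroup (Fin n) F) := by
  by_cases h : 3 ∣ Fintype.card F - 1
  · exact psl_split (by omega) h
  · have hq : 0 < Fintype.card F := Fintype.card_pos
    refine wit_center (Sigma.Psl.four_blocks two_zero hn) ?_ ?_
    · rw [card_center n (by omega)]
      have h1 : Nat.Coprime 3 (Fintype.card F - 1) := (Nat.Prime.coprime_iff_not_dvd Nat.prime_three).2 h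
      exact h1.coprime_dvd_right (Nat.gcd_dvd_right _ _)
    · rw [card_center n (by omega)]
      have h1 : Nat.Coprime 2 (Fintype.card F - 1) := by
        rw [Nat.coprime_two_left]
        obtain ⟨k, hk⟩ := even_card (F := F)
        exact ⟨k - 1, by omega⟩
      exact h1.coprime_dvd_right (Nat.gcd_dvd_right _ _)

/-- `PSp_{2m}(q)`, `m ≥ 5` -/
theorem psp {m : ℕ} (hm : 5 ≤ m) : Wit 3 4 (PSp m F) := by
  obtain ⟨n, rfl⟩ : ∃ n, m = n + 1 := ⟨m - 1, by omega⟩
  exact Sigma.Symp.wit_three.mono (by norm_num) (by omega)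

/-- `PΩ⁺_{2m}(q)`, `m ≥ 5` -/
theorem plus {m : ℕ} (hm : 5 ≤ m) : Wit 3 4 (POmega F (quadFormPlus m F)) := by
  rw [← LieClassical.OrthForms.coe_plusForm]
  have hQ := LieClassical.OrthForms.nondeg_plusForm m F
  have hd : 5 ≤ Fintype.card (Fin m ⊕ Fin m) := by
    rw [Fintype.card_sum, Fintype.card_fin]
    omega
  have P := Sigma.Orth.pairs_plus (F := F) (show 5 ≤ m from hm)
  exact Sigma.Orth.pomega hQ hd (P.hyp 0).left (P.hyp 0).left_ne (Sigma.Orth.wit_five P)

/-- in a finite field of characteristic 2 without primitive cube roots of unity the elements outside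
`{x² + x}` differ from 1 by an element `x² + x` -/
theorem exists_as {d : F} (h : ¬ 3 ∣ Fintype.card F - 1) (hd : ∀ x : F, x ^ 2 + x ≠ d) : ∃ x : F, x ^ 2 + x = 1 + d := by
  classical
  let f : F →+ F :=
    { toFun := fun x => x ^ 2 + x
      map_zero' := by ring
      map_add' := fun x y => by
        have h2 := CharTwo.two_eq_zero (R := F)
        linear_combination x * y * h2 }
  have h1 : ∀ x : F, x ^ 2 + x ≠ 1 := by
    intro x hx
    apply h
    have hcard : Nat.card Fˣ = Fintype.card F - 1 := by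
      rw [Nat.card_units, Nat.card_eq_fintype_card]
    have h2 := CharTwo.two_eq_zero (R := F)
    have hx0 : x ≠ 0 := by
      rintro rfl
      apply zero_ne_one (α := F)
      rw [← hx]; ring
    have hx3 : x ^ 3 = 1 := by
      linear_combination (x - 1) * hx + (x - 1) * h2
    have hx1 : x ≠ 1 := by
      rintro rfl
      apply one_ne_zero (α := F)
      linear_combination hx
    have : Fact (Nat.Prime 3) := ⟨Nat.prime_three⟩
    have ho : orderOf (Units.mk0 x hx0) = 3 := by
      apply orderOf_eq_prime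
      · apply Units.ext; simpa using hx3
      · intro h4; exact hx1 (congrArg Units.val h4)
    rw [← hcard, ← ho]
    exact orderOf_dvd_natCard _
  have hker : Nat.card f.ker = 2 := by
    have h3 : (f.ker : Set F) = {0, 1} := by
      ext x
      simp only [SetLike.mem_coe, AddMonoidHom.mem_ker, Set.mem_insert_iff, Set.mem_singleton_iff]
      have h2 := CharTwo.two_eq_zero (R := F)
      constructor
      · intro hx
        have hx' : x ^ 2 + x = 0 := hx
        have h4 : x * (x + 1) = 0 := by linear_combination hx'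
        rcases mul_eq_zero.1 h4 with h5 | h5
        · exact Or.inl h5
        · right; linear_combination h5 - h2
      · rintro (rfl | rfl)
        · exact map_zero f
        · show (1 : F) ^ 2 + 1 = 0
          linear_combination h2
    have h5 : Nat.card f.ker = Nat.card ((f.ker : Set F)) := rfl
    rw [h5, h3]
    rw [Nat.card_eq_fintype_card]
    simp
  have hidx : f.range.index = 2 := by
    have h3 : Nat.card f.range * Nat.card f.ker = Nat.card F := by
      rw [mul_comm, ← AddSubgroup.index_ker f, AddSubgroup.card_mul_index]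
    have h4 := f.range.card_mul_index
    rw [← h3, hker] at h4
    have h5 : 0 < Nat.card f.range := Nat.card_pos
    exact Nat.eq_of_mul_eq_mul_left h5 h4
  have h4 := AddSubgroup.add_mem_iff_of_index_two hidx (a := 1) (b := d)
  have h5 : (1 : F) ∉ f.range := by rintro ⟨x, hx⟩; exact h1 x hx
  have h6 : d ∉ f.range := by rintro ⟨x, hx⟩; exact hd x hx
  obtain ⟨x, hx⟩ := h4.2 (by tauto)
  exact ⟨x, hx⟩

/-- `PΩ⁻_{2m+2}(q)`, `m ≥ 4` -/
theorem minus {m : ℕ} (hm : 4 ≤ m) (a b : F)
    (hab : ∀ z₁ z₂ : F, z₁ ^ 2 + a * z₁ * z₂ + b * z₂ ^ 2 = 0 → z₁ = 0 ∧ z₂ = 0) :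
    Wit 3 4 (POmega F (quadFormMinus m F a b)) := by
  rw [← LieClassical.OrthForms.coe_minusForm]
  have hQ := LieClassical.OrthForms.nondeg_minusForm m F a b hab
  have hd : 5 ≤ Fintype.card ((Fin m ⊕ Fin m) ⊕ Fin 2) := by
    rw [Fintype.card_sum, Fintype.card_sum, Fintype.card_fin, Fintype.card_fin]
    omega
  have P := Sigma.Orth.pairs_minus (F := F) (show 4 ≤ m from hm) a b
  have hu := (P.hyp 0).left
  have hu0 := (P.hyp 0).left_ne
  by_cases h : 3 ∣ Fintype.card F - 1
  · obtain ⟨c, hc, hc1⟩ := exists_three h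
    refine Sigma.Orth.pomega hQ hd hu hu0 (Sigma.Orth.wit_torus P (by norm_num) (Sigma.Orth.comm_eq hQ hd)
      Nat.prime_three (by norm_num) hc ?_)
    intro h2
    have h3 : c ^ 2 = 1 := Units.ext (by simpa using h2)
    apply hc1
    calc c = c ^ 3 * (c ^ 2)⁻¹ := by group
      _ = 1 := by rw [hc, h3]; simp
  · have h2 := CharTwo.two_eq_zero (R := F)
    have ha : a ≠ 0 := by
      rintro rfl
      obtain ⟨s, hs⟩ : ∃ s : F, s ^ 2 = b := by
        have hs : Function.Surjective (fun x : F => x ^ 2) := by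
          refine Finite.surjective_of_injective (f := fun x : F => x ^ 2) ?_
          intro x y hxy
          have h3 : (x + y) ^ 2 = 0 := by
            have h4 : x ^ 2 = y ^ 2 := hxy
            linear_combination h4 + (x * y + y ^ 2) * h2
          have h5 : x + y = 0 := by
            exact pow_eq_zero_iff (two_ne_zero) |>.1 h3
          linear_combination h5 - y * h2
        exact hs b
      have h3 := hab s 1 (by rw [← hs]; linear_combination s ^ 2 * h2)
      exact one_ne_zero h3.2
    have hd' : ∀ x : F, x ^ 2 + x ≠ b / a ^ 2 := by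
      intro x hx
      have h3 := hab x (1 / a) (by
        have h4 : b = a ^ 2 * (x ^ 2 + x) := by rw [hx]; field_simp
        rw [h4]
        field_simp
        linear_combination (x ^ 2 + x) * h2)
      exact one_div_ne_zero ha h3.2
    obtain ⟨x, hx⟩ := exists_as h hd'
    have N : Sigma.Orth.Ani (LieClassical.OrthForms.minusForm m F a b)
        (Pi.single (Sum.inr 0) (1 : F) : (Fin m ⊕ Fin m) ⊕ Fin 2 → F)
        (Pi.single (Sum.inr 0) x + Pi.single (Sum.inr 1) (1 / a) : (Fin m ⊕ Fin m) ⊕ Fin 2 → F) := by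
      refine ⟨?_, ?_, ?_⟩
      · rw [LieClassical.OrthForms.coe_minusForm, LieClassical.OrthForms.quadFormMinus_apply,
          Finset.sum_eq_zero fun i _ => by simp]
        simp
      · rw [LieClassical.OrthForms.coe_minusForm, LieClassical.OrthForms.quadFormMinus_apply,
          Finset.sum_eq_zero fun i _ => by simp]
        simp
        field_simp
        field_simp at hx
        linear_combination hx + b * h2
      · rw [LieClassical.OrthForms.polar_minusForm, Finset.sum_eq_zero fun i _ => by simp]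
        simp [ha]
        exact Or.inl h2
    refine Sigma.Orth.pomega hQ hd hu hu0 (Sigma.Orth.wit_minus P N (Sigma.Orth.comm_eq hQ hd) ?_ ?_)
    · intro i
      constructor
      · rw [LieClassical.OrthForms.polar_minusForm, Finset.sum_eq_zero fun i _ => by simp]
        simp
      · rw [LieClassical.OrthForms.polar_minusForm, Finset.sum_eq_zero fun i _ => by simp]
        simp
    · intro i
      constructor
      · rw [LieClassical.OrthForms.polar_minusForm, Finset.sum_eq_zero fun i _ => by simp]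
        simp
      · rw [LieClassical.OrthForms.polar_minusForm, Finset.sum_eq_zero fun i _ => by simp]
        simp

end psl

end Cfsg.Agent.H439.LSeven.WitThree
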