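import Mathlib
import Cfsg.Agent.S0279
import Cfsg.Agent.GpSp.Row
import Cfsg.Agent.Sigma.RowsSpOm
import Cfsg.Agent.H439.LSeven.Eigen
import Cfsg.Agent.H439.LSeven.WitThree

/-!
# Classical groups of small rank have no element of order 31 conjugate to its square (helper439)

`YW G` : `G` has an element of order 31 conjugate to its square.  It fails, in characteristic 2, for `PSL_n`, `n ≤ 4`,
`PSp_{2m}`, `m ≤ 4`, `PSU_n`, `n ≤ 9` and `PΩ^±_8`.
-/

set_option autoImplicit false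
set_option linter.unusedSectionVars false

namespace Cfsg.Agent.H439.LSeven.SmallCl

open Cfsg Subgroup Matrix

/-- an element of order 31 conjugate to its square -/
def YW (G : Type*) [Group G] : Prop := ∃ y w : G, orderOf y = 31 ∧ w * y * w⁻¹ = y ^ 2

theorem YW.of_injective {G H : Type*} [Group G] [Group H] (f : G →* H) (hf : Function.Injective f) (h : YW G) :
    YW H := by
  obtain ⟨y, w, hy, hwy⟩ := h
  refine ⟨f y, f w, ?_, ?_⟩
  · rw [← hy]; exact orderOf_injective f hf y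
  · rw [← map_inv, ← map_mul, ← map_mul, hwy, map_pow]

theorem YW.congr {G H : Type*} [Group G] [Group H] (e : G ≃* H) (h : YW G) : YW H :=
  h.of_injective e.toMonoidHom e.injective

theorem coprime31 {m : ℕ} (h0 : 0 < m) (h : m < 31) : Nat.Coprime 31 m :=
  (Nat.Prime.coprime_iff_not_dvd (by norm_num)).2 fun h1 => by
    have := Nat.le_of_dvd h0 h1
    omega

variable {F : Type*} [Field F] [Fintype F] [CharP F 2]

/-- the matrix version of the relations -/
theorem mat_rel {ι : Type*} [Fintype ι] [DecidableEq ι] {Y W W' : Matrix ι ι F} (h1 : W * W' = 1)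
    (h : W * Y * W' = Y ^ 2) : IsUnit W.det ∧ W * Y = Y * Y * W := by
  have h2 : W' * W = 1 := mul_eq_one_comm.1 h1
  refine ⟨?_, ?_⟩
  · have := congrArg det h1
    rw [det_mul, det_one] at this
    exact IsUnit.of_mul_eq_one _ this
  · rw [← pow_two, ← h, mul_assoc, h2, mul_one]

theorem no_psl {n : ℕ} (hn1 : 1 ≤ n) (hn : n ≤ 4) : ¬ YW (Matrix.ProjectiveSpecialLinearGroup (Fin n) F) := by
  rintro ⟨y, w, hy, hwy⟩
  have hc : Nat.Coprime 31 (Nat.card (center (Matrix.SpecialLinearGroup (Fin n) F))) := by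
    rw [WitThree.card_center n hn1]
    have h1 : Nat.gcd n (Fintype.card F - 1) ≤ n := Nat.gcd_le_left _ (by omega)
    exact coprime31 (Nat.gcd_pos_of_pos_left _ (by omega)) (by omega)
  obtain ⟨Y, W, hY, hY1, hWY, -, -⟩ := Eigen.lift_yw hc hy hwy
  obtain ⟨h1, h2⟩ := mat_rel (Y := (Y : Matrix (Fin n) (Fin n) F)) (W := (W : Matrix (Fin n) (Fin n) F))
    (W' := ((W⁻¹ : Matrix.SpecialLinearGroup (Fin n) F) : Matrix (Fin n) (Fin n) F))
    (by rw [← Matrix.SpecialLinearGroup.coe_mul, mul_inv_cancel]; rfl)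
    (by rw [← Matrix.SpecialLinearGroup.coe_mul, ← Matrix.SpecialLinearGroup.coe_mul, hWY]
        exact Matrix.SpecialLinearGroup.coe_pow _ _)
  have h3 := Eigen.five_le h1 h2 (by rw [← Matrix.SpecialLinearGroup.coe_pow, hY]; rfl)
    (fun h => hY1 (Subtype.ext h))
  rw [Fintype.card_fin] at h3
  omega

theorem map_one_pow {ι : Type*} (Y : Matrix ι ι F) : Y.map (fun x => x ^ (2 ^ 0)) = Y := by
  ext i j
  simp

theorem no_sp {m : ℕ} (hm : m ≤ 4) : ¬ YW (Matrix.symplecticGroup (Fin m) F) := by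
  rintro ⟨y, w, hy, hwy⟩
  obtain ⟨h1, h2⟩ := mat_rel (Y := (y : Matrix (Fin m ⊕ Fin m) (Fin m ⊕ Fin m) F))
    (W := (w : Matrix (Fin m ⊕ Fin m) (Fin m ⊕ Fin m) F))
    (W' := ((w⁻¹ : Matrix.symplecticGroup (Fin m) F) : Matrix (Fin m ⊕ Fin m) (Fin m ⊕ Fin m) F))
    (congrArg Subtype.val (mul_inv_cancel w)) (congrArg Subtype.val hwy)
  have hy31 : y ^ 31 = 1 := by rw [← hy]; exact pow_orderOf_eq_one y
  have h3 := Eigen.ten_le (s := 0) (B := J (Fin m) F) h1 h2 (congrArg Subtype.val hy31) (fun h => by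
      have : y = 1 := Subtype.ext h
      rw [this, orderOf_one] at hy
      norm_num at hy) (isUnit_det_J _ _) (by
      rw [map_one_pow]
      exact SymplecticGroup.mem_iff'.1 y.2)
  rw [Fintype.card_sum, Fintype.card_fin] at h3
  omega

theorem no_psp {m : ℕ} (hm : m ≤ 4) : ¬ YW (PSp m F) := fun h =>
  no_sp hm (h.congr (GpSp.Row.toPSp F m).symm)

omit [CharP F 2] in
theorem su_form {n q : ℕ} (hF : Fintype.card F = q ^ 2) (g : SU n F q) :
    ((g : Matrix.SpecialLinearGroup (Fin n) F) : Matrix (Fin n) (Fin n) F)ᵀ * 1 *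
      ((g : Matrix.SpecialLinearGroup (Fin n) F) : Matrix (Fin n) (Fin n) F).map (fun x => x ^ q) = 1 := by
  set M := ((g : Matrix.SpecialLinearGroup (Fin n) F) : Matrix (Fin n) (Fin n) F) with hM
  have h1 := (LieClassical.SUBasic.mem_SU_iff (g : Matrix.SpecialLinearGroup (Fin n) F)).1 g.2
  ext i j
  have h2 := h1 (Pi.single i 1) (Pi.single j 1)
  rw [LieClassical.HermBasic.herm_single_right hF, one_pow, mul_one] at h2
  rw [mul_one, mul_apply, one_apply]
  have h3 : hermForm n F q (M *ᵥ Pi.single i 1) (M *ᵥ Pi.single j 1) = ∑ k, Mᵀ i k * M.map (fun x => x ^ q) k j := by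
    rw [LieClassical.SUBasic.hermForm_apply]
    refine Finset.sum_congr rfl fun k _ => ?_
    rw [mulVec_single_one, mulVec_single_one]
    rfl
  rw [← h3, h2, Pi.single_apply]
  by_cases h : i = j
  · rw [if_pos h.symm, if_pos h]
  · rw [if_neg (Ne.symm h), if_neg h]

theorem no_psu {n q s : ℕ} (hF : Fintype.card F = q ^ 2) (hq : q = 2 ^ s) (hn3 : 3 ≤ n) (hn : n ≤ 9) :
    ¬ YW (PSU n F q) := by
  rintro ⟨y, w, hy, hwy⟩
  have hc : Nat.Coprime 31 (Nat.card (center (SU n F q))) := by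
    rw [S0279.result hF n hn3]
    have h1 : Nat.gcd n (q + 1) ≤ n := Nat.gcd_le_left _ (by omega)
    exact coprime31 (Nat.gcd_pos_of_pos_left _ (by omega)) (by omega)
  obtain ⟨Y, W, hY, hY1, hWY, -, -⟩ := Eigen.lift_yw hc hy hwy
  have hW1 : ((W : Matrix.SpecialLinearGroup (Fin n) F) : Matrix (Fin n) (Fin n) F) *
      (((W⁻¹ : SU n F q) : Matrix.SpecialLinearGroup (Fin n) F) : Matrix (Fin n) (Fin n) F) = 1 :=
    congrArg (fun g : SU n F q => ((g : Matrix.SpecialLinearGroup (Fin n) F) : Matrix (Fin n) (Fin n) F))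
      (mul_inv_cancel W)
  have hYW := congrArg (fun g : SU n F q => ((g : Matrix.SpecialLinearGroup (Fin n) F) : Matrix (Fin n) (Fin n) F)) hWY
  have hY2 := congrArg (fun g : SU n F q => ((g : Matrix.SpecialLinearGroup (Fin n) F) : Matrix (Fin n) (Fin n) F)) hY
  obtain ⟨h1, h2⟩ := mat_rel (Y := ((Y : Matrix.SpecialLinearGroup (Fin n) F) : Matrix (Fin n) (Fin n) F)) hW1 (by
    simpa using hYW)
  have h3 := Eigen.ten_le (s := s) (B := 1) h1 h2 (by simpa using hY2) (fun h => hY1 (Subtype.ext (Subtype.ext h)))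
    (by rw [det_one]; exact isUnit_one) (by rw [← hq]; exact su_form hF Y)
  rw [Fintype.card_fin] at h3
  omega

/-- orthogonal groups -/
theorem no_omega {ι : Type} [Fintype ι] [DecidableEq ι] {Q : QuadraticForm F (ι → F)}
    (hQ : LieClassical.OrthCore.Nondeg Q) (hι : Fintype.card ι ≤ 9) : ¬ YW (isometryGroup F ⇑Q) := by
  rintro ⟨y, w, hy, hwy⟩
  have hy31 : y ^ 31 = 1 := by rw [← hy]; exact pow_orderOf_eq_one y
  set Y : Matrix ι ι F := ((y : Matrix.GeneralLinearGroup ι F) : Matrix ι ι F) with hY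
  set W : Matrix ι ι F := ((w : Matrix.GeneralLinearGroup ι F) : Matrix ι ι F) with hW
  have hW1 : W * (((w⁻¹ : isometryGroup F ⇑Q) : Matrix.GeneralLinearGroup ι F) : Matrix ι ι F) = 1 :=
    congrArg (fun g : isometryGroup F ⇑Q => ((g : Matrix.GeneralLinearGroup ι F) : Matrix ι ι F)) (mul_inv_cancel w)
  have hYW := congrArg (fun g : isometryGroup F ⇑Q => ((g : Matrix.GeneralLinearGroup ι F) : Matrix ι ι F)) hwy
  have hY2 := congrArg (fun g : isometryGroup F ⇑Q => ((g : Matrix.GeneralLinearGroup ι F) : Matrix ι ι F)) hy31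
  obtain ⟨h1, h2⟩ := mat_rel (Y := Y) hW1 (by simpa using hYW)
  let B : Matrix ι ι F := Matrix.of fun i j => QuadraticMap.polar Q (Pi.single i 1) (Pi.single j 1)
  have hB : ∀ u v : ι → F, QuadraticMap.polar Q u v = u ⬝ᵥ (B *ᵥ v) := by
    intro u v
    have e1 : QuadraticMap.polar Q u v = Q.polarBilin u v := rfl
    have e2 : B = LinearMap.toMatrix₂' F Q.polarBilin := by
      ext i j
      rw [LinearMap.toMatrix₂'_apply]
      rfl
    rw [e1, e2, ← Matrix.toLinearMap₂'_apply', Matrix.toLinearMap₂'_toMatrix']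
  have hBdet : IsUnit B.det := by
    rw [isUnit_iff_ne_zero]
    intro h0
    obtain ⟨v, hv0, hv⟩ := exists_mulVec_eq_zero_iff.2 h0
    apply hv0
    apply hQ v
    intro u
    rw [QuadraticMap.polar_comm, hB, hv, dotProduct_zero]
  have hpres : ∀ u v : ι → F, QuadraticMap.polar Q (Y *ᵥ u) (Y *ᵥ v) = QuadraticMap.polar Q u v := by
    intro u v
    have h4 : ∀ u : ι → F, Q (Y *ᵥ u) = Q u := fun u => y.2 u u
    rw [QuadraticMap.polar, QuadraticMap.polar, ← mulVec_add, h4, h4, h4]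
  have h3 := Eigen.ten_le (s := 0) (B := B) h1 h2 (by simpa using hY2) (fun h => by
      have : y = 1 := Subtype.ext (Units.ext h)
      rw [this, orderOf_one] at hy
      norm_num at hy) hBdet (by
      rw [map_one_pow]
      ext i j
      have h5 := hpres (Pi.single i 1) (Pi.single j 1)
      rw [hB] at h5
      have h6 : (Yᵀ * B * Y) i j = (Y *ᵥ Pi.single i 1) ⬝ᵥ (B *ᵥ (Y *ᵥ Pi.single j 1)) := by
        rw [mulVec_mulVec, mulVec_single_one, mulVec_single_one, mul_assoc, mul_apply]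
        rfl
      rw [h6, h5]
      rfl)
  omega

theorem no_pomega {ι : Type} [Fintype ι] [DecidableEq ι] {Q : QuadraticForm F (ι → F)}
    (hQ : LieClassical.OrthCore.Nondeg Q) (hι3 : 3 ≤ Fintype.card ι) (hι : Fintype.card ι ≤ 9)
    (hs : ∃ u : ι → F, u ≠ 0 ∧ Q u = 0) : ¬ YW (POmega F ⇑Q) := by
  intro h
  have hbot : Subgroup.center (Cfsg.Omega F (⇑Q)) = ⊥ :=
    LieClassical.OrthCenter.center_omega_eq_bot_char_two (CharTwo.two_eq_zero)
      (LieClassical.OmegaReindex.nondegenerate_of_left Q hQ) hι3 hs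
  have h1 : YW (Cfsg.Omega F ⇑Q) := h.congr ((QuotientGroup.quotientMulEquivOfEq hbot).trans QuotientGroup.quotientBot)
  exact no_omega hQ hι (h1.of_injective (Omega F ⇑Q).subtype (subtype_injective _))

theorem no_plus {m : ℕ} (hm2 : 2 ≤ m) (hm : m ≤ 4) : ¬ YW (POmega F (quadFormPlus m F)) := by
  rw [← LieClassical.OrthForms.coe_plusForm]
  have P := Sigma.Orth.pairs_plus (F := F) (show 1 ≤ m by omega)
  refine no_pomega (LieClassical.OrthForms.nondeg_plusForm m F) ?_ ?_ ⟨_, (P.hyp 0).left_ne, (P.hyp 0).left⟩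
  · rw [Fintype.card_sum, Fintype.card_fin]; omega
  · rw [Fintype.card_sum, Fintype.card_fin]; omega

theorem no_minus {m : ℕ} (hm2 : 1 ≤ m) (hm : m ≤ 3) (a b : F)
    (hab : ∀ z₁ z₂ : F, z₁ ^ 2 + a * z₁ * z₂ + b * z₂ ^ 2 = 0 → z₁ = 0 ∧ z₂ = 0) :
    ¬ YW (POmega F (quadFormMinus m F a b)) := by
  rw [← LieClassical.OrthForms.coe_minusForm]
  have P := Sigma.Orth.pairs_minus (F := F) (show 1 ≤ m by omega) a b
  refine no_pomega (LieClassical.OrthForms.nondeg_minusForm m F a b hab) ?_ ?_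
    ⟨_, (P.hyp 0).left_ne, (P.hyp 0).left⟩
  · rw [Fintype.card_sum, Fintype.card_sum, Fintype.card_fin, Fintype.card_fin]; omega
  · rw [Fintype.card_sum, Fintype.card_sum, Fintype.card_fin, Fintype.card_fin]; omega

end Cfsg.Agent.H439.LSeven.SmallCl
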