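import Mathlib
import Cfsg.Agent.H439.LSeven.Eigen

/-!
helper439 (for S3731): linear algebra for the centralisers of elements of order 3 of `PSL_n(q)`, `q` even, `3 ∤ q - 1`.
-/

set_option autoImplicit false
set_option linter.unusedSectionVars false

namespace Cfsg.Agent.H439.LSeven.PslLin

open Matrix Module Polynomial

section lin

variable {F V : Type*} [Field F] [CharP F 2] [AddCommGroup V] [Module F V] [FiniteDimensional F V]

theorem five_lin {Y W : Module.End F V} (hW : IsUnit W) (h : W * Y = Y * Y * W) (h31 : Y ^ 31 = 1) (h1 : Y ≠ 1) :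
    5 ≤ finrank F V := by
  let u := Module.finBasis F V
  let Φ := LinearMap.toMatrixAlgEquiv u
  have h2 := Eigen.five_le (Y := Φ Y) (W := Φ W) ?_ ?_ ?_ ?_
  · rwa [Fintype.card_fin] at h2
  · rw [← Matrix.isUnit_iff_isUnit_det]
    exact hW.map Φ
  · rw [← map_mul, h, map_mul, map_mul]
  · rw [← map_pow, h31, map_one]
  · intro h3
    apply h1
    apply Φ.injective
    rw [h3, map_one]

theorem ten_lin (irr : Irreducible (X ^ 2 + X + 1 : F[X])) {J Y W : Module.End F V} (hJ : J * J + J + 1 = 0)
    (cY : J * Y = Y * J) (cW : J * W = W * J) (hW : IsUnit W) (h : W * Y = Y * Y * W) (h31 : Y ^ 31 = 1)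
    (h1 : Y ≠ 1) : 10 ≤ finrank F V := by
  set p : F[X] := X ^ 2 + X + 1 with hp
  have fi : Fact (Irreducible p) := ⟨irr⟩
  have hJ' : aeval J p = 0 := by
    rw [hp]
    simp only [map_add, map_mul, aeval_X, map_one, pow_two]
    exact hJ
  let φ : AdjoinRoot p →ₐ[F] Module.End F V := Ideal.Quotient.liftₐ (Ideal.span {p}) (aeval J) (by
    intro f hf
    obtain ⟨g, rfl⟩ := Ideal.mem_span_singleton.1 hf
    rw [map_mul, hJ', zero_mul])
  letI : Module (AdjoinRoot p) V := Module.compHom V φ.toRingHom
  have hsm : ∀ (k : AdjoinRoot p) (v : V), k • v = φ k v := fun _ _ => rfl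
  have : IsScalarTower F (AdjoinRoot p) V := ⟨fun a k v => by
    rw [hsm, hsm, map_smul]; rfl⟩
  have hcomm : ∀ Z : Module.End F V, J * Z = Z * J → ∀ (k : AdjoinRoot p) (v : V), Z (k • v) = k • Z v := by
    intro Z hZ k v
    rw [hsm, hsm]
    obtain ⟨f, rfl⟩ := AdjoinRoot.mk_surjective k
    have h2 : φ (AdjoinRoot.mk p f) = aeval J f := rfl
    rw [h2]
    have h3 : Commute (aeval J f) Z := by
      have h4 : Z ∈ Subalgebra.centralizer F {J} := by
        rw [Subalgebra.mem_centralizer_iff]
        rintro _ rfl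
        exact hZ
      have h5 : aeval J f ∈ Algebra.adjoin F {J} := aeval_mem_adjoin_singleton F J
      have h6 : Algebra.adjoin F {J} ≤ Subalgebra.centralizer F {Z} := by
        rw [Algebra.adjoin_le_iff]
        rintro _ rfl
        rw [SetLike.mem_coe, Subalgebra.mem_centralizer_iff]
        rintro _ rfl
        exact hZ.symm
      exact ((Subalgebra.mem_centralizer_iff F).1 (h6 h5) Z rfl).symm
    exact (congrArg (fun T : Module.End F V => T v) h3.eq).symm
  let lf : ∀ Z : Module.End F V, J * Z = Z * J → Module.End (AdjoinRoot p) V := fun Z hZ =>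
    { toFun := Z, map_add' := Z.map_add, map_smul' := hcomm Z hZ }
  have hlf : ∀ Z hZ v, lf Z hZ v = Z v := fun _ _ _ => rfl
  have : CharP (AdjoinRoot p) 2 := charP_of_injective_algebraMap (algebraMap F (AdjoinRoot p)).injective 2
  have : Module.Finite (AdjoinRoot p) V := Module.Finite.of_restrictScalars_finite F (AdjoinRoot p) V
  have h5 : 5 ≤ finrank (AdjoinRoot p) V := by
    refine five_lin (Y := lf Y cY) (W := lf W cW) ?_ ?_ ?_ ?_
    · rw [Module.End.isUnit_iff] at hW ⊢
      exact hW
    · apply LinearMap.ext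
      intro v
      exact congrArg (fun T : Module.End F V => T v) h
    · apply LinearMap.ext
      intro v
      have h6 : ∀ k : ℕ, ∀ v : V, ((lf Y cY) ^ k) v = (Y ^ k) v := by
        intro k
        induction k with
        | zero => intro v; rfl
        | succ k ih => intro v; rw [pow_succ, pow_succ, Module.End.mul_apply, Module.End.mul_apply, ih]; rfl
      rw [h6, h31]; rfl
    · intro h6
      apply h1
      apply LinearMap.ext
      intro v
      exact congrArg (fun T : Module.End (AdjoinRoot p) V => T v) h6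
  have h6 : finrank F (AdjoinRoot p) = 2 := by
    rw [(AdjoinRoot.powerBasis irr.ne_zero).finrank, AdjoinRoot.powerBasis_dim, hp]
    compute_degree!
  have h7 := Module.finrank_mul_finrank F (AdjoinRoot p) V
  rw [h6] at h7
  omega

end lin

/-- the polynomial `x² + x + 1` is irreducible if `3 ∤ q - 1` -/
theorem irr {F : Type*} [Field F] [Fintype F] [CharP F 2] (h3 : ¬ 3 ∣ Fintype.card F - 1) :
    Irreducible (X ^ 2 + X + 1 : F[X]) := by
  classical
  have hd : (X ^ 2 + X + 1 : F[X]).natDegree = 2 := by compute_degree!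
  rw [Polynomial.irreducible_iff_roots_eq_zero_of_degree_le_three (by omega) (by omega), Multiset.eq_zero_iff_forall_notMem]
  intro x hx
  have h1 := (mem_roots'.1 hx).2
  rw [IsRoot.def] at h1
  simp only [eval_add, eval_pow, eval_X, eval_one] at h1
  have h2 : x ^ 3 = 1 := by linear_combination (x - 1) * h1
  have h4 : x ≠ 1 := by
    rintro rfl
    have h5 : (2 : F) = 0 := CharTwo.two_eq_zero
    have h6 : (1 : F) = 0 := by linear_combination h1 - h5
    exact one_ne_zero h6
  have h0 : x ≠ 0 := by
    rintro rfl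
    norm_num at h2
  apply h3
  have h5 : orderOf (Units.mk0 x h0) = 3 := by
    have : Fact (Nat.Prime 3) := ⟨Nat.prime_three⟩
    apply orderOf_eq_prime
    · apply Units.ext; simpa using h2
    · intro h6
      exact h4 (congrArg Units.val h6)
  rw [← Fintype.card_units, ← h5]
  exact orderOf_dvd_card

/-- the block decomposition of an idempotent matrix -/
theorem exists_blocks {F : Type*} [Field F] {n : ℕ} (e : Matrix (Fin n) (Fin n) F) (he : e * e = e) :
    ∃ (a c : ℕ), a + c = n ∧ ∃ Φ : Matrix (Fin n) (Fin n) F ≃ₐ[F] Matrix (Fin a ⊕ Fin c) (Fin a ⊕ Fin c) F,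
      (∀ Z, (Φ Z).det = Z.det) ∧ Φ e = fromBlocks 1 0 0 0 := by
  set ε : (Fin n → F) →ₗ[F] (Fin n → F) := Matrix.toLin' e with hε
  have hid : IsIdempotentElem ε := by
    show ε * ε = ε
    rw [hε]
    show (Matrix.toLin' e) ∘ₗ (Matrix.toLin' e) = Matrix.toLin' e
    rw [← Matrix.toLin'_mul, he]
  have hc : IsCompl (LinearMap.range ε) (LinearMap.ker ε) := LinearMap.IsIdempotentElem.isCompl hid
  set P := LinearMap.range ε
  set Q := LinearMap.ker ε
  let u := ((Module.finBasis F P).prod (Module.finBasis F Q)).map (Submodule.prodEquivOfIsCompl P Q hc)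
  refine ⟨finrank F P, finrank F Q, ?_, Matrix.toLinAlgEquiv'.trans (LinearMap.toMatrixAlgEquiv u), ?_, ?_⟩
  · rw [Submodule.finrank_add_eq_of_isCompl hc, Module.finrank_fin_fun]
  · intro Z
    rw [AlgEquiv.trans_apply]
    show (LinearMap.toMatrix u u _).det = _
    rw [LinearMap.det_toMatrix]
    exact LinearMap.det_toLin' Z
  · rw [AlgEquiv.trans_apply]
    show LinearMap.toMatrix u u ε = _
    ext i j
    rw [LinearMap.toMatrix_apply]
    have hl : ∀ j, u (Sum.inl j) = (Module.finBasis F P j : Fin n → F) := by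
      intro j
      simp [u]
    have hr : ∀ j, u (Sum.inr j) = (Module.finBasis F Q j : Fin n → F) := by
      intro j
      simp [u]
    rcases j with j | j
    · have h1 : ε (u (Sum.inl j)) = u (Sum.inl j) := by
        rw [hl]
        obtain ⟨v, hv⟩ := (Module.finBasis F P j).2
        rw [← hv]
        exact congrArg (fun T : Module.End F (Fin n → F) => T v) hid
      rw [h1, Basis.repr_self]
      rcases i with i | i
      · simp [Finsupp.single_apply, Matrix.one_apply, eq_comm]
      · simp
    · have h1 : ε (u (Sum.inr j)) = 0 := by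
        rw [hr]
        exact (Module.finBasis F Q j).2
      rw [h1, map_zero]
      rcases i with i | i <;> simp

end Cfsg.Agent.H439.LSeven.PslLin
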