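import Mathlib
import Cfsg.Agent.H439.LSeven.PslLin
import Cfsg.Agent.H439.LSeven.Base
import Cfsg.Agent.H439.LSeven.WitThree
import Cfsg.Agent.S0243
import Cfsg.Agent.S0249

/-!
helper439 (for S3731): `PSL_n(q)`, `q` even, `3 ∤ q - 1`, `n ≤ 7` with the configuration `Core` is `PSL_7(2)`.
-/

set_option autoImplicit false
set_option linter.unusedSectionVars false

namespace Cfsg.Agent.H439.LSeven.PslFin

open Matrix Module Subgroup

variable {F : Type*} [Field F]

theorem comm_blocks {a c : ℕ} {Z : Matrix (Fin a ⊕ Fin c) (Fin a ⊕ Fin c) F}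
    (h : Z * fromBlocks 1 0 0 0 = fromBlocks 1 0 0 0 * Z) : ∃ A D, Z = fromBlocks A 0 0 D := by
  rw [← fromBlocks_toBlocks Z] at h ⊢
  rw [fromBlocks_multiply, fromBlocks_multiply, fromBlocks_inj] at h
  simp only [Matrix.mul_one, Matrix.mul_zero, add_zero, Matrix.zero_mul, Matrix.one_mul] at h
  obtain ⟨-, h1, h2, -⟩ := h
  exact ⟨_, _, by rw [← h1, h2]⟩

theorem pow_ten_dvd [Fintype F] [CharP F 2] :
    Fintype.card F ^ 10 ∣ Nat.card (Matrix.ProjectiveSpecialLinearGroup (Fin 5) F) := by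
  set q := Fintype.card F with hq
  obtain ⟨s, hs⟩ : ∃ s : ℕ, q = 2 ^ s := by
    obtain ⟨m, -, hm⟩ := FiniteField.card F 2
    exact ⟨m, hm⟩
  have hs0 : s ≠ 0 := by
    rintro rfl
    have := Fintype.one_lt_card (α := F)
    omega
  have h1 := Cfsg.Agent.S0243.result (F := F) (q := q) rfl 5 (by norm_num)
  have hodd : Nat.Coprime q (q - 1) := by
    have h2 : 1 ≤ q := Fintype.card_pos
    have h3 : Nat.Coprime (q - 1 + 1) (q - 1) := by simp
    rwa [Nat.sub_add_cancel h2] at h3
  have h2 : q ^ 10 ∣ Nat.gcd 5 (q - 1) * ((q - 1) * Nat.card (Matrix.ProjectiveSpecialLinearGroup (Fin 5) F)) := by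
    rw [h1]
    simp only [Fin.prod_univ_succ, Finset.univ_eq_empty, Finset.prod_empty, Fin.val_zero, Fin.val_succ, pow_zero,
      mul_one]
    have e : ∀ i j : ℕ, i + j = 5 → q ^ 5 - q ^ i = q ^ i * (q ^ j - 1) := by
      intro i j hij
      rw [Nat.mul_sub, mul_one, ← pow_add, hij]
    rw [e (0 + 1) 4 rfl, e (0 + 1 + 1) 3 rfl, e (0 + 1 + 1 + 1) 2 rfl, e (0 + 1 + 1 + 1 + 1) 1 rfl]
    refine ⟨(q ^ 5 - 1) * ((q ^ 4 - 1) * ((q ^ 3 - 1) * ((q ^ 2 - 1) * (q ^ 1 - 1)))), ?_⟩
    ring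
  have h3 : Nat.Coprime (q ^ 10) (q - 1) := hodd.pow_left 10
  have h4 : Nat.Coprime (q ^ 10) (Nat.gcd 5 (q - 1)) := h3.coprime_dvd_right (Nat.gcd_dvd_right _ _)
  exact h3.dvd_of_dvd_mul_left (h4.dvd_of_dvd_mul_left h2)

theorem card_eq_two [Fintype F] [CharP F 2]
    (h : Nat.card (Matrix.ProjectiveSpecialLinearGroup (Fin 5) F) ∣ 9999360) : Fintype.card F = 2 := by
  obtain ⟨s, -, hs⟩ := FiniteField.card F 2
  have h1 := pow_ten_dvd.trans h
  rw [hs, ← pow_mul] at h1
  have h2 : (s : ℕ) < 2 := by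
    by_contra h3
    push Not at h3
    have h4 : 2 ^ 20 ∣ 9999360 := (pow_dvd_pow 2 (by omega)).trans h1
    revert h4; decide
  have h3 : (s : ℕ) = 1 := by
    have := s.pos
    omega
  rw [hs, h3, pow_one]

theorem idem [CharP F 2] {n : ℕ} {B : Matrix (Fin n) (Fin n) F} (hB : B * B * B = 1) :
    B * (1 + B + B * B) = 1 + B + B * B ∧ (1 + B + B * B) * (1 + B + B * B) = 1 + B + B * B := by
  have h1 : B * (1 + B + B * B) = 1 + B + B * B := by
    rw [mul_add, mul_add, mul_one, ← mul_assoc, hB]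
    abel
  refine ⟨h1, ?_⟩
  have h2 : (1 + B + B * B) * (1 + B + B * B) =
      (1 + B + B * B) + B * (1 + B + B * B) + B * (B * (1 + B + B * B)) := by noncomm_ring
  rw [h2, h1, h1]
  have h3 : ∀ Z : Matrix (Fin n) (Fin n) F, Z + Z = 0 := by
    intro Z
    ext i j
    exact CharTwo.add_self_eq_zero (Z i j)
  rw [add_assoc, h3, add_zero]

theorem main [Fintype F] [CharP F 2] (h3 : ¬ 3 ∣ Fintype.card F - 1) {n : ℕ} (hn2 : 1 ≤ n) (hn : n ≤ 7)
    {b : SpecialLinearGroup (Fin n) F ⧸ center (SpecialLinearGroup (Fin n) F)}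
    {L : Subgroup (SpecialLinearGroup (Fin n) F ⧸ center (SpecialLinearGroup (Fin n) F))}
    (h : Core (SpecialLinearGroup (Fin n) F ⧸ center (SpecialLinearGroup (Fin n) F)) b L) :
    n = 7 ∧ Fintype.card F = 2 := by
  have hirr := PslLin.irr h3
  have hcard := WitThree.card_center (F := F) n hn2
  have hc3 : Nat.Coprime 3 (Nat.card (center (SpecialLinearGroup (Fin n) F))) := by
    rw [hcard]
    exact ((Nat.Prime.coprime_iff_not_dvd Nat.prime_three).2 h3).coprime_dvd_right (Nat.gcd_dvd_right _ _)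
  have hc31 : Nat.Coprime 31 (Nat.card (center (SpecialLinearGroup (Fin n) F))) := by
    rw [hcard]
    apply Nat.Coprime.coprime_dvd_right (Nat.gcd_dvd_left _ _)
    apply (Nat.Prime.coprime_iff_not_dvd (by norm_num)).2
    intro h4
    have := Nat.le_of_dvd (by omega) h4
    omega
  obtain ⟨B, hB3, hBb⟩ := Eigen.exists_lift hc3 (y := b) (by rw [← h.hb]; exact pow_orderOf_eq_one b)
  have hB1 : B ≠ 1 := by
    rintro rfl
    have h4 : b = 1 := by rw [← hBb]; rfl
    have h5 := h.hb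
    rw [h4, orderOf_one] at h5
    norm_num at h5
  obtain ⟨y, hyL, w, hwL, hy31, -, hwy⟩ := exists_yw h.facts
  obtain ⟨Y, W, hY31, hY1, hWY, hYy, hWw⟩ := Eigen.lift_yw hc31 hy31 hwy
  have hcomm : ∀ g : SpecialLinearGroup (Fin n) F, (QuotientGroup.mk g : _ ⧸ center _) * b = b * QuotientGroup.mk g →
      g * B = B * g := fun g hg => Eigen.comm_lift hc3 hB3 (by rw [hBb]; exact hg)
  have cY : Y * B = B * Y := hcomm Y (by rw [hYy]; exact h.le y hyL)
  have cW : W * B = B * W := hcomm W (by rw [hWw]; exact h.le w hwL)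
  have vB3 : B.1 * B.1 * B.1 = 1 := by
    have h4 := congrArg Subtype.val hB3
    rw [pow_succ, pow_succ, pow_one] at h4
    exact h4
  obtain ⟨hBe, hee⟩ := idem vB3
  obtain ⟨a, c, hac, Φ, hdet, hΦe⟩ := PslLin.exists_blocks _ hee
  have hblk : ∀ g : SpecialLinearGroup (Fin n) F, g * B = B * g → ∃ A D, Φ g.1 = fromBlocks A 0 0 D := by
    intro g hg
    apply comm_blocks
    rw [← hΦe, ← map_mul, ← map_mul]
    congr 1
    have h4 : g.1 * B.1 = B.1 * g.1 := congrArg Subtype.val hg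
    rw [mul_add, mul_add, add_mul, add_mul, mul_one, one_mul, ← mul_assoc, h4, mul_assoc B.1 g.1, h4, mul_assoc]
  -- `B`
  obtain ⟨B₁, J, hB⟩ := hblk B rfl
  have hB₁ : B₁ = 1 ∧ J * J + J + 1 = 0 := by
    have h4 := congrArg Φ hBe
    rw [map_mul, hΦe, hB, fromBlocks_multiply, fromBlocks_inj] at h4
    have h5 : B₁ = 1 := by simpa using h4.1
    refine ⟨h5, ?_⟩
    have h6 := hΦe
    rw [map_add, map_add, map_mul, map_one, hB, fromBlocks_multiply, ← fromBlocks_one, fromBlocks_add, fromBlocks_add,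
      fromBlocks_inj] at h6
    have h7 := h6.2.2.2
    rw [Matrix.zero_mul, zero_add] at h7
    rw [← h7]; abel
  obtain ⟨rfl, hJ⟩ := hB₁
  obtain ⟨Y₁, Y₂, hY⟩ := hblk Y cY
  obtain ⟨W₁, W₂, hW⟩ := hblk W cW
  have hJY : J * Y₂ = Y₂ * J := by
    have h4 : Y.1 * B.1 = B.1 * Y.1 := congrArg Subtype.val cY
    have h5 := congrArg Φ h4
    rw [map_mul, map_mul, hY, hB, fromBlocks_multiply, fromBlocks_multiply, fromBlocks_inj] at h5
    simpa using h5.2.2.2.symm
  have hJW : J * W₂ = W₂ * J := by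
    have h4 : W.1 * B.1 = B.1 * W.1 := congrArg Subtype.val cW
    have h5 := congrArg Φ h4
    rw [map_mul, map_mul, hW, hB, fromBlocks_multiply, fromBlocks_multiply, fromBlocks_inj] at h5
    simpa using h5.2.2.2.symm
  have hWY' : W₁ * Y₁ = Y₁ * Y₁ * W₁ ∧ W₂ * Y₂ = Y₂ * Y₂ * W₂ := by
    have h4 : W * Y = Y * Y * W := by
      have := mul_inv_eq_iff_eq_mul.1 hWY
      rw [pow_two] at this
      exact this
    have h5 : W.1 * Y.1 = Y.1 * Y.1 * W.1 := congrArg Subtype.val h4
    have h6 := congrArg Φ h5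
    rw [map_mul, map_mul, map_mul, hY, hW, fromBlocks_multiply, fromBlocks_multiply, fromBlocks_multiply,
      fromBlocks_inj] at h6
    exact ⟨by simpa using h6.1, by simpa using h6.2.2.2⟩
  have hY31' : Y₁ ^ 31 = 1 ∧ Y₂ ^ 31 = 1 := by
    have h4 : Y.1 ^ 31 = 1 := by
      have := congrArg Subtype.val hY31
      simpa using this
    have h5 := congrArg Φ h4
    rw [map_pow, hY, fromBlocks_diagonal_pow, map_one, ← fromBlocks_one, fromBlocks_inj] at h5
    exact ⟨h5.1, h5.2.2.2⟩
  have hunit : ∀ (g : SpecialLinearGroup (Fin n) F) (A : Matrix (Fin a) (Fin a) F) (D : Matrix (Fin c) (Fin c) F),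
      Φ g.1 = fromBlocks A 0 0 D → A.det * D.det = 1 := by
    intro g A D hg
    have h4 := hdet g.1
    rw [hg, det_fromBlocks_zero₁₂] at h4
    rw [h4]
    exact g.2
  have hWu := hunit W W₁ W₂ hW
  have hW₁ : IsUnit W₁.det := IsUnit.of_mul_eq_one _ hWu
  have hW₂ : IsUnit W₂.det := IsUnit.of_mul_eq_one W₁.det (by rw [mul_comm]; exact hWu)
  -- `Y₂ = 1`
  have hY₂ : Y₂ = 1 := by
    by_contra hne
    let T := Matrix.toLinAlgEquiv' (R := F) (n := Fin c)
    have h4 := PslLin.ten_lin (F := F) (V := Fin c → F) hirr (J := T J) (Y := T Y₂) (W := T W₂) ?_ ?_ ?_ ?_ ?_ ?_ ?_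
    · rw [Module.finrank_fin_fun] at h4
      omega
    · rw [← map_mul, ← map_add, ← map_one T, ← map_add, hJ, map_zero]
    · rw [← map_mul, hJY, map_mul]
    · rw [← map_mul, hJW, map_mul]
    · exact ((Matrix.isUnit_iff_isUnit_det _).2 hW₂).map T
    · rw [← map_mul, hWY'.2, map_mul, map_mul]
    · rw [← map_pow, hY31'.2, map_one]
    · intro h5
      apply hne
      apply T.injective
      rw [h5, map_one]
  subst hY₂
  have hY₁ : Y₁ ≠ 1 := by
    rintro rfl
    apply hY1
    apply Subtype.ext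
    apply Φ.injective
    rw [hY, fromBlocks_one]
    exact (map_one Φ).symm
  have ha : 5 ≤ a := by
    have := Eigen.five_le hW₁ hWY'.1 hY31'.1 hY₁
    rwa [Fintype.card_fin] at this
  have hc0 : c ≠ 0 := by
    rintro rfl
    apply hB1
    apply Subtype.ext
    apply Φ.injective
    rw [hB, Subsingleton.elim J 1, fromBlocks_one]
    exact (map_one Φ).symm
  have hc1 : c ≠ 1 := by
    rintro rfl
    have h4 := congrFun (congrFun hJ 0) 0
    simp only [Matrix.add_apply, Matrix.mul_apply, Finset.univ_unique, Fin.default_eq_zero, Finset.sum_singleton,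
      Matrix.one_apply_eq, Matrix.zero_apply] at h4
    have h5 : (Polynomial.X ^ 2 + Polynomial.X + 1 : Polynomial F).IsRoot (J 0 0) := by
      rw [Polynomial.IsRoot.def]
      simp only [Polynomial.eval_add, Polynomial.eval_pow, Polynomial.eval_X, Polynomial.eval_one]
      rw [pow_two]; exact h4
    have h6 := Polynomial.degree_eq_one_of_irreducible_of_root hirr h5
    have h7 : (Polynomial.X ^ 2 + Polynomial.X + 1 : Polynomial F).degree = 2 := by compute_degree!
    rw [h7] at h6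
    exact absurd h6 (by decide)
  obtain rfl : n = 7 := by omega
  obtain rfl : a = 5 := by omega
  obtain rfl : c = 2 := by omega
  refine ⟨rfl, ?_⟩
  -- the embedding of `SL_5`
  let ψ : SpecialLinearGroup (Fin 5) F →* SpecialLinearGroup (Fin 7) F :=
    { toFun := fun A => ⟨Φ.symm (fromBlocks A.1 0 0 1), by
        rw [← hdet, AlgEquiv.apply_symm_apply, det_fromBlocks_zero₁₂, det_one, mul_one]
        exact A.2⟩
      map_one' := by
        apply Subtype.ext
        show Φ.symm (fromBlocks (1 : Matrix (Fin 5) (Fin 5) F) 0 0 1) = 1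
        rw [fromBlocks_one, map_one]
      map_mul' := by
        intro A A'
        apply Subtype.ext
        show Φ.symm (fromBlocks (A.1 * A'.1) 0 0 1) = Φ.symm (fromBlocks A.1 0 0 1) * Φ.symm (fromBlocks A'.1 0 0 1)
        rw [← map_mul, fromBlocks_multiply]
        simp }
  have hψ : ∀ A, Φ (ψ A).1 = fromBlocks A.1 0 0 1 := fun A => Φ.apply_symm_apply _
  have hψinj : ∀ A, ψ A = 1 → A = 1 := by
    intro A hA
    have h4 := hψ A
    rw [hA] at h4
    have h5 : Φ (1 : SpecialLinearGroup (Fin 7) F).1 = fromBlocks 1 0 0 1 := by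
      rw [fromBlocks_one]; exact map_one Φ
    rw [h5, fromBlocks_inj] at h4
    exact Subtype.ext h4.1.symm
  have hrange : ∀ g : SpecialLinearGroup (Fin 7) F, (∃ C, Φ g.1 = fromBlocks C 0 0 1) → g ∈ ψ.range := by
    rintro g ⟨C, hC⟩
    have h4 := hunit g C 1 hC
    rw [det_one, mul_one] at h4
    refine ⟨(⟨C, h4⟩ : SpecialLinearGroup (Fin 5) F), ?_⟩
    apply Subtype.ext
    apply Φ.injective
    exact (hψ (⟨C, h4⟩ : SpecialLinearGroup (Fin 5) F)).trans hC.symm
  have hψB : ∀ A, ψ A * B = B * ψ A := by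
    intro A
    apply Subtype.ext
    apply Φ.injective
    show Φ ((ψ A).1 * B.1) = Φ (B.1 * (ψ A).1)
    rw [map_mul, map_mul, hψ, hB, fromBlocks_multiply, fromBlocks_multiply]
    simp
  set π := QuotientGroup.mk' (center (SpecialLinearGroup (Fin 7) F)) with hπ
  set θ := π.comp ψ with hθ
  have hθb : ∀ A, θ A * b = b * θ A := by
    intro A
    rw [← hBb]
    show π (ψ A) * π B = π B * π (ψ A)
    rw [← map_mul, hψB, map_mul]
  have hLS : L ≤ θ.range := by
    have hnorm : (θ.range.subgroupOf L).Normal := by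
      refine ⟨?_⟩
      rintro x hx l
      rw [mem_subgroupOf] at hx ⊢
      obtain ⟨A, hA⟩ := hx
      obtain ⟨g, hg⟩ := QuotientGroup.mk_surjective (l : SpecialLinearGroup (Fin 7) F ⧸ center _)
      have hgB : g * B = B * g := hcomm g (by rw [hg]; exact h.le l l.2)
      obtain ⟨g₁, g₂, hg12⟩ := hblk g hgB
      have hcB : (g * ψ A * g⁻¹) * B = B * (g * ψ A * g⁻¹) := by
        have h4 : Commute g B := hgB
        have h5 : Commute (ψ A) B := hψB A
        exact ((h4.mul_left h5).mul_left h4.inv_left).eq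
      obtain ⟨C, D, hCD⟩ := hblk _ hcB
      have hD : D = 1 := by
        have h4 : (g * ψ A * g⁻¹).1 * g.1 = g.1 * (ψ A).1 := by
          have : (g * ψ A * g⁻¹) * g = g * ψ A := by group
          exact congrArg Subtype.val this
        have h5 := congrArg Φ h4
        rw [map_mul, map_mul, hCD, hψ, hg12, fromBlocks_multiply, fromBlocks_multiply, fromBlocks_inj] at h5
        have h6 : D * g₂ = g₂ := by simpa using h5.2.2.2
        have h7 : IsUnit g₂.det := IsUnit.of_mul_eq_one g₁.det (by rw [mul_comm]; exact hunit g g₁ g₂ hg12)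
        have h8 : IsUnit g₂ := (Matrix.isUnit_iff_isUnit_det _).2 h7
        exact h8.mul_right_cancel (by rw [h6, one_mul])
      obtain ⟨A', hA'⟩ := hrange _ ⟨C, by rw [hCD, hD]⟩
      refine ⟨A', ?_⟩
      show π (ψ A') = l.1 * x.1 * l.1⁻¹
      rw [hA', map_mul, map_mul, map_inv, ← hA, ← hg]
      rfl
    have hs := h.facts.simple
    rcases hs.eq_bot_or_eq_top_of_normal _ hnorm with h4 | h4
    · exfalso
      have h5 : (⟨y, hyL⟩ : L) ∈ θ.range.subgroupOf L := by
        rw [mem_subgroupOf]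
        obtain ⟨A, hA⟩ := hrange Y ⟨Y₁, hY⟩
        exact ⟨A, by
          show π (ψ A) = y
          rw [hA, ← hYy]; rfl⟩
      rw [h4, mem_bot] at h5
      have h6 : y = 1 := congrArg Subtype.val h5
      rw [h6, orderOf_one] at hy31
      norm_num at hy31
    · exact subgroupOf_eq_top.1 h4
  have hθinj : Function.Injective θ := by
    rw [injective_iff_map_eq_one]
    intro A hA
    apply hψinj
    have h4 : ψ A ∈ center (SpecialLinearGroup (Fin 7) F) := (QuotientGroup.eq_one_iff _).1 hA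
    obtain ⟨r, -, hr⟩ := Matrix.SpecialLinearGroup.mem_center_iff.1 h4
    have h5 : Φ (scalar (Fin 7) r) = algebraMap F _ r := Φ.commutes r
    have h6 := hψ A
    rw [show (ψ A).1 = scalar (Fin 7) r from hr.symm, h5] at h6
    have h7 : r = 1 := by
      have := congrFun (congrFun h6 (Sum.inr 0)) (Sum.inr 0)
      simpa [Matrix.algebraMap_matrix_apply] using this
    apply Subtype.ext
    rw [show (ψ A).1 = scalar (Fin 7) r from hr.symm, h7, map_one]
    rfl
  -- the normal subgroup of `SL_5`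
  set N : Subgroup (SpecialLinearGroup (Fin 5) F) := L.comap θ with hN
  have hNn : N.Normal := by
    refine ⟨fun x hx A => ?_⟩
    show θ (A * x * A⁻¹) ∈ L
    rw [map_mul, map_mul, map_inv]
    exact h.nrm (θ A) (hθb A) (θ x) hx
  have hmap : N.map θ = L := Subgroup.map_comap_eq_self hLS
  have hcN : Nat.card N = 9999360 := by
    rw [← h.facts.card, ← hmap, Subgroup.card_map_of_injective hθinj]
  set τ := QuotientGroup.mk' (center (SpecialLinearGroup (Fin 5) F)) with hτ
  have hsimple : IsSimpleGroup (SpecialLinearGroup (Fin 5) F ⧸ center (SpecialLinearGroup (Fin 5) F)) :=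
    Cfsg.Agent.S0249.result (F := F) 5 (by norm_num)
  have hn' : (N.map τ).Normal := hNn.map τ (QuotientGroup.mk'_surjective _)
  rcases hsimple.eq_bot_or_eq_top_of_normal _ hn' with h4 | h4
  · exfalso
    rw [Subgroup.map_eq_bot_iff, QuotientGroup.ker_mk'] at h4
    obtain ⟨u, v, huv⟩ := h.facts.na
    apply huv
    apply Subtype.ext
    have hu : u.1 ∈ N.map θ := by rw [hmap]; exact u.2
    have hv : v.1 ∈ N.map θ := by rw [hmap]; exact v.2
    obtain ⟨A, hA, hAu⟩ := hu
    obtain ⟨A', hA', hAv⟩ := hv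
    show u.1 * v.1 = v.1 * u.1
    rw [← hAu, ← hAv, ← map_mul, ← map_mul]
    congr 1
    exact (mem_center_iff.1 (h4 hA) A').symm
  · have h5 : Nat.card (SpecialLinearGroup (Fin 5) F ⧸ center (SpecialLinearGroup (Fin 5) F)) ∣ Nat.card N := by
      have h6 : Nat.card (N.map τ) ∣ Nat.card N := Subgroup.card_map_dvd _ _
      rwa [h4, Subgroup.card_top] at h6
    rw [hcN] at h5
    exact card_eq_two h5

end Cfsg.Agent.H439.LSeven.PslFin
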