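import Mathlib
import Cfsg.Agent.Sigma.Psu
import Cfsg.Agent.S0279
import Cfsg.Agent.H439.LSeven.WitThree

/-!
# `Wit 3 4` for `PSU_n(q)`, `q` even, `n ≥ 10` (helper439)
-/

set_option autoImplicit false
set_option linter.unusedSectionVars false

namespace Cfsg.Agent.H439.LSeven.PsuWit

open Cfsg Subgroup Matrix Cfsg.Agent.ETable Cfsg.Agent.LieClassical.HermBasic
  Cfsg.Agent.LieClassical.HermSiegel Cfsg.Agent.LieClassical.SUBasic
  Cfsg.Agent.ClassicalGeometry.PSUAutBasic Cfsg.Agent.Sigma.Psu

variable {n q : ℕ} {F : Type*} [Field F] [Fintype F]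

theorem tr_comm (hF : Fintype.card F = q ^ 2) {x y : Fin n → F} (hx : hermForm n F q x x = 0)
    (hy : hermForm n F q y y = 0) {μ ν : F} (hμ : μ + μ ^ q = 0) (hν : ν + ν ^ q = 0) (h : hermForm n F q x y = 0) :
    Commute (transv hF x hx μ hμ) (transv hF y hy ν hν) := by
  have h' : hermForm n F q y x = 0 := herm_eq_zero_swap hF h
  apply ext_act
  intro v
  rw [act_mul, act_mul, act_transv, act_transv, act_transv, act_transv, herm_add_left, herm_add_left,
    herm_smul_left, herm_smul_left, h, h', mul_zero, mul_zero, add_zero, add_zero]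
  abel

theorem tr_sq [CharP F 2] (hF : Fintype.card F = q ^ 2) {x : Fin n → F} (hx : hermForm n F q x x = 0)
    {μ : F} (hμ : μ + μ ^ q = 0) : transv hF x hx μ hμ * transv hF x hx μ hμ = 1 := by
  have h2 := CharTwo.two_eq_zero (R := F)
  apply ext_act
  intro v
  rw [act_mul, act_transv, act_transv, act_one, herm_add_left, herm_smul_left, hx, mul_zero, add_zero]
  funext i
  simp only [Pi.add_apply, Pi.smul_apply, smul_eq_mul]
  linear_combination (μ * hermForm n F q v x * x i) * h2

theorem tr_braid [CharP F 2] (hF : Fintype.card F = q ^ 2) {x y : Fin n → F} (hx : hermForm n F q x x = 0)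
    (hy : hermForm n F q y y = 0) {μ ν : F} (hμ : μ + μ ^ q = 0) (hν : ν + ν ^ q = 0)
    (h : μ * ν * (hermForm n F q x y * hermForm n F q y x) = 1) :
    transv hF x hx μ hμ * transv hF y hy ν hν * transv hF x hx μ hμ =
      transv hF y hy ν hν * transv hF x hx μ hμ * transv hF y hy ν hν := by
  have h2 := CharTwo.two_eq_zero (R := F)
  apply ext_act
  intro v
  simp only [act_mul, act_transv, herm_add_left, herm_smul_left, hx, hy]
  funext i
  simp only [Pi.add_apply, Pi.smul_apply, smul_eq_mul]
  set c := hermForm n F q x y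
  set d := hermForm n F q y x
  set r := hermForm n F q v x
  set s := hermForm n F q v y
  linear_combination (μ * r * x i) * h - (ν * s * y i) * h + (μ * r * x i) * h2 - (ν * s * y i) * h2

/-- the vector `e_i + β e_j` -/
def pv (F : Type*) [Field F] {n : ℕ} (i j : Fin n) (β : F) : Fin n → F := Pi.single i 1 + Pi.single j β

theorem herm_pv (hF : Fintype.card F = q ^ 2) (v : Fin n → F) (i j : Fin n) (β : F) :
    hermForm n F q v (pv F i j β) = v i + v j * β ^ q := by
  rw [pv, herm_add_right hF, herm_single_right hF, herm_single_right hF, one_pow, mul_one]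

theorem pv_fst {i j : Fin n} (h : i ≠ j) (β : F) : pv F i j β i = 1 := by simp [pv, h]
theorem pv_snd {i j : Fin n} (h : i ≠ j) (β : F) : pv F i j β j = β := by simp [pv, h.symm]
theorem pv_other {i j k : Fin n} (hi : k ≠ i) (hj : k ≠ j) (β : F) : pv F i j β k = 0 := by simp [pv, hi, hj]

/-- `3 ∣ q + 1` -/
theorem split (hF : Fintype.card F = q ^ 2) (h2 : (2 : F) = 0) (h3 : 3 ∣ q + 1) (hn : 7 ≤ n) :
    Wit 3 4 (PSU n F q) := by
  have hq2 := two_le hF
  obtain ⟨a, haq, hap, ha1⟩ : ∃ a : F, a ^ (q + 1) = 1 ∧ a ^ 3 = 1 ∧ a ≠ 1 := by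
    have : Fact (Nat.Prime 3) := ⟨Nat.prime_three⟩
    obtain ⟨c, hc⟩ := exists_prime_orderOf_dvd_card' (G := Fˣ) 3 (by
      rw [card_units_eq hF]; exact h3.trans (dvd_mul_right _ _))
    refine ⟨c, ?_, ?_, ?_⟩
    · obtain ⟨k, hk⟩ := h3
      rw [← Units.val_pow_eq_pow_val, hk, pow_mul, ← hc, pow_orderOf_eq_one, one_pow, Units.val_one]
    · rw [← Units.val_pow_eq_pow_val, ← hc, pow_orderOf_eq_one, Units.val_one]
    · intro h
      have : c = 1 := Units.ext h
      rw [this, orderOf_one] at hc
      norm_num at hc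
  have ha0 : a ≠ 0 := by
    rintro rfl
    rw [zero_pow (Nat.succ_ne_zero q)] at haq
    exact zero_ne_one haq
  let k : Fin 4 → Fin n := fun i => ⟨i.val + 2, by omega⟩
  let m : Fin n := ⟨6, by omega⟩
  let i0 : Fin n := ⟨0, by omega⟩
  let i1 : Fin n := ⟨1, by omega⟩
  have hkm : ∀ i, k i ≠ m := fun i h => by
    have := congrArg Fin.val h
    simp only [k, m] at this
    omega
  have h0k : ∀ i, i0 ≠ k i := fun i h => by
    have := congrArg Fin.val h
    simp only [k, i0] at this
    omega
  have h1k : ∀ i, i1 ≠ k i := fun i h => by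
    have := congrArg Fin.val h
    simp only [k, i1] at this
    omega
  have h0m : i0 ≠ m := fun h => by
    have := congrArg Fin.val h
    simp only [i0, m] at this
    omega
  have h1m : i1 ≠ m := fun h => by
    have := congrArg Fin.val h
    simp only [i1, m] at this
    omega
  have hkk : ∀ i j, i ≠ j → k i ≠ k j := fun i j hij h => hij (by
    have := congrArg Fin.val h
    simp only [k] at this
    exact Fin.ext (by omega))
  have hv : ∀ i j, (Pi.mulSingle (k i) a * Pi.mulSingle m a⁻¹ : Fin n → F) j =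
      if j = k i then a else if j = m then a⁻¹ else 1 := by
    intro i j
    rw [Pi.mul_apply, Pi.mulSingle_apply, Pi.mulSingle_apply]
    by_cases h1 : j = k i
    · rw [if_pos h1, if_pos h1, if_neg (by rw [h1]; exact hkm i), mul_one]
    · rw [if_neg h1, if_neg h1, one_mul]
  refine torus hF h2 (by omega) Nat.prime_three (fun i => Pi.mulSingle (k i) a * Pi.mulSingle m a⁻¹) i0 i1
    (by intro h; have := congrArg Fin.val h; simp only [i0, i1] at this; omega) k h0k ?_ ?_ ?_ ?_ ?_ ?_
  · intro i
    simp [Finset.prod_mul_distrib, Finset.prod_pi_mulSingle', ha0]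
  · intro i j
    rw [hv]
    split_ifs
    · exact haq
    · rw [inv_pow, haq, inv_one]
    · exact one_pow _
  · intro i
    refine ⟨1, fun j => ?_⟩
    rw [hv]
    split_ifs
    · exact hap
    · rw [inv_pow, hap, inv_one]
    · exact one_pow _
  · intro i
    rw [hv, hv, if_neg (h0k i), if_neg h0m, if_neg (h1k i), if_neg h1m]
  · intro i j hij
    rw [hv, hv, if_neg (h0k i), if_neg h0m, if_neg (hkk i j hij).symm, if_neg (hkm j)]
  · intro i
    rw [hv, hv, if_neg (h0k i), if_neg h0m, if_pos rfl]
    exact ha1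

/-- five blocks `S₃` in `SU_n(q)`, `n ≥ 10` -/
theorem blocks [CharP F 2] (hF : Fintype.card F = q ^ 2) (hn : 10 ≤ n) : Wit 3 4 (SU n F q) := by
  have h2 := CharTwo.two_eq_zero (R := F)
  obtain ⟨β, hβ, hβ1⟩ := exists_norm_one hF
  have hβq : β ^ (q ^ 2) = β := by rw [← hF]; exact FiniteField.pow_card β
  have hββ : β * β ^ q = 1 := by rw [← pow_succ']; exact hβ
  have hβqq : (β ^ q) ^ q = β := by rw [← pow_mul, ← pow_two]; exact hβq
  set c : F := 1 + β ^ q with hc
  set d : F := 1 + β with hd
  have hd0 : d ≠ 0 := by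
    intro h
    apply hβ1
    linear_combination h - h2
  have hcq : c ^ q = d := by
    rw [hc, hd, add_pow_q hF, one_pow, hβqq]
  have hdq : d ^ q = c := by
    rw [hc, hd, add_pow_q hF, one_pow]
  have hc0 : c ≠ 0 := by
    intro h
    rw [h, zero_pow_q hF] at hcq
    exact hd0 hcq.symm
  set ν : F := (c * d)⁻¹ with hν
  have hνq : ν + ν ^ q = 0 := by
    have : ν ^ q = ν := by
      rw [hν, inv_pow, mul_pow, hcq, hdq, mul_comm]
    rw [this]
    linear_combination ν * h2
  let a : Fin 5 → Fin n := fun i => ⟨2 * i.val, by omega⟩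
  let b : Fin 5 → Fin n := fun i => ⟨2 * i.val + 1, by omega⟩
  have hab : ∀ i j, a i ≠ b j := fun i j h => by
    have := congrArg Fin.val h
    simp only [a, b] at this
    omega
  have haa : ∀ i j, i ≠ j → a i ≠ a j := fun i j hij h => hij (by
    have := congrArg Fin.val h
    simp only [a] at this
    exact Fin.ext (by omega))
  have hbb : ∀ i j, i ≠ j → b i ≠ b j := fun i j hij h => hij (by
    have := congrArg Fin.val h
    simp only [b] at this
    exact Fin.ext (by omega))
  have hx : ∀ i, hermForm n F q (pv F (a i) (b i) 1) (pv F (a i) (b i) 1) = 0 := by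
    intro i
    rw [herm_pv hF, pv_fst (hab i i), pv_snd (hab i i), one_pow]
    linear_combination h2
  have hy : ∀ i, hermForm n F q (pv F (a i) (b i) β) (pv F (a i) (b i) β) = 0 := by
    intro i
    rw [herm_pv hF, pv_fst (hab i i), pv_snd (hab i i), hββ]
    linear_combination h2
  have horth : ∀ i j, i ≠ j → ∀ s t : F, hermForm n F q (pv F (a i) (b i) s) (pv F (a j) (b j) t) = 0 := by
    intro i j hij s t
    rw [herm_pv hF, pv_other (haa j i hij.symm) (hab j i), pv_other (hab i j).symm (hbb j i hij.symm)]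
    ring
  have h1c : (1 : F) + 1 ^ q = 0 := one_cond h2
  let U : Fin 5 → SU n F q := fun i => transv hF (pv F (a i) (b i) 1) (hx i) 1 h1c
  let V : Fin 5 → SU n F q := fun i => transv hF (pv F (a i) (b i) β) (hy i) ν hνq
  have hUU : ∀ i j, i ≠ j → Commute (U i) (U j) := fun i j hij => tr_comm hF _ _ _ _ (horth i j hij _ _)
  have hUV : ∀ i j, i ≠ j → Commute (U i) (V j) := fun i j hij => tr_comm hF _ _ _ _ (horth i j hij _ _)
  have hVV : ∀ i j, i ≠ j → Commute (V i) (V j) := fun i j hij => tr_comm hF _ _ _ _ (horth i j hij _ _)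
  have hU2 : ∀ i, U i * U i = 1 := fun i => tr_sq hF _ _
  have hV2 : ∀ i, V i * V i = 1 := fun i => tr_sq hF _ _
  have hbr : ∀ i, U i * V i * U i = V i * U i * V i := by
    intro i
    apply tr_braid hF
    rw [herm_pv hF, herm_pv hF, pv_fst (hab i i), pv_fst (hab i i), pv_snd (hab i i), pv_snd (hab i i), one_pow]
    show 1 * ν * ((1 + 1 * β ^ q) * (1 + β * 1)) = 1
    rw [one_mul, one_mul, mul_one, ← hc, ← hd, hν, inv_mul_cancel₀ (mul_ne_zero hc0 hd0)]
  have hne : ∀ i, U i * V i ≠ 1 := by
    intro i h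
    have h3 : U i = V i := by
      calc U i = U i * (V i * V i) := by rw [hV2, mul_one]
        _ = (U i * V i) * V i := by rw [mul_assoc]
        _ = V i := by rw [h, one_mul]
    have h4 := congrArg (fun g => act g (Pi.single (a i) (1 : F)) (a i)) h3
    have h5 := congrArg (fun g => act g (Pi.single (a i) (1 : F)) (b i)) h3
    simp only [U, V, act_transv, herm_pv hF, Pi.add_apply, Pi.smul_apply, smul_eq_mul, Pi.single_eq_same,
      Pi.single_eq_of_ne (hab i i).symm, Pi.single_eq_of_ne (hab i i), pv_fst (hab i i), pv_snd (hab i i)] at h4 h5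
    have h6 : ν = 1 := by linear_combination -h4
    rw [h6] at h5
    apply hβ1
    linear_combination -h5
  refine Wit.of_pairs (fun i : Fin 4 => U i.castSucc) (fun i : Fin 4 => V i.castSucc) (fun i => hU2 _)
    (fun i => hV2 _) (fun i => hbr _) (fun i => hne _)
    (fun i j hij => hUU _ _ (fun h => hij (Fin.castSucc_injective _ h)))
    (fun i j hij => hUV _ _ (fun h => hij (Fin.castSucc_injective _ h)))
    (fun i j hij => hVV _ _ (fun h => hij (Fin.castSucc_injective _ h))) (zpowers (U 4)) ?_ ?_ ?_ ?_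
  · intro g
    obtain ⟨g, k, rfl⟩ := g
    refine ⟨1, Subtype.ext ?_⟩
    show (U 4 ^ k) ^ (2 ^ 1) = 1
    rw [pow_one, ← zpow_natCast, ← _root_.zpow_mul, mul_comm, _root_.zpow_mul, zpow_natCast, pow_two, hU2, _root_.one_zpow]
  · intro h
    rw [zpowers_eq_bot] at h
    have h4 := congrArg (fun g => act g (Pi.single (a 4) (1 : F)) (b 4)) h
    simp only [U, act_transv, herm_pv hF, Pi.add_apply, Pi.smul_apply, smul_eq_mul, Pi.single_eq_same,
      Pi.single_eq_of_ne (hab 4 4).symm, Pi.single_eq_of_ne (hab 4 4), pv_fst (hab 4 4), pv_snd (hab 4 4),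
      act_one] at h4
    exact one_ne_zero (α := F) (by linear_combination h4)
  · intro i
    have hc4 : Commute (U i.castSucc) (U 4) := hUU _ _ (Fin.castSucc_lt_last i).ne
    exact (centralizer_le_normalizer _) (by
      rw [mem_centralizer_iff]
      rintro _ ⟨k, rfl⟩
      exact (hc4.zpow_right k).eq.symm)
  · intro i
    have hc4 : Commute (V i.castSucc) (U 4) := (hUV 4 _ (Fin.castSucc_lt_last i).ne').symm
    exact (centralizer_le_normalizer _) (by
      rw [mem_centralizer_iff]
      rintro _ ⟨k, rfl⟩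
      exact (hc4.zpow_right k).eq.symm)

/-- **`PSU_n(q)`, `n ≥ 10`** -/
theorem psu [CharP F 2] (hF : Fintype.card F = q ^ 2) (hn : 10 ≤ n) : Wit 3 4 (PSU n F q) := by
  by_cases h3 : 3 ∣ q + 1
  · exact split hF (CharTwo.two_eq_zero) h3 (by omega)
  · refine WitThree.wit_center (blocks hF hn) ?_ ?_
    · rw [S0279.result hF n (by omega)]
      have h1 : Nat.Coprime 3 (q + 1) := (Nat.Prime.coprime_iff_not_dvd Nat.prime_three).2 h3
      exact h1.coprime_dvd_right (Nat.gcd_dvd_right _ _)
    · rw [S0279.result hF n (by omega)]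
      have h1 : Nat.Coprime 2 (q + 1) := by
        rw [Nat.coprime_two_left]
        have h4 := WitThree.even_card (F := F)
        rw [hF, Nat.even_pow] at h4
        exact h4.1.add_one
      exact h1.coprime_dvd_right (Nat.gcd_dvd_right _ _)

end Cfsg.Agent.H439.LSeven.PsuWit
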