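import Mathlib
import Cfsg.Agent.H439.LSeven.Base
import Cfsg.Agent.BpSpor.JFourThree
import Cfsg.Agent.CpAutTh.Final
import Cfsg.Agent.Sigma.BabyWit
import Cfsg.Agent.Sigma.MonsterFin
import Cfsg.Agent.Sigma.Pair
import Cfsg.Agent.NotCT.Orders

/-!
helper439 (for S3731): the sporadic groups whose order is divisible by 31: `J₄`, `Th`, `B`, `M`.
-/

set_option autoImplicit false
set_option linter.unusedSectionVars false

namespace Cfsg.Agent.H439.LSeven.SporRow

open Subgroup Cfsg Cfsg.Agent.H439.LSeven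

/-! ### `B`, `M` -/

theorem not_mem_sigma {G : Type*} [Group G] {b : G} {L : Subgroup G} (h : Core G b L) : 3 ∉ sigmaSet G := by
  rintro ⟨hp, -, S, M, ⟨⟨hM, -⟩, -⟩, hr⟩
  exact Sigma.Pair.not_pRankAtLeast_of_le hp (h.rank M hM) hr

theorem no_M {G : Type*} [Group G] [Finite G] {b : G} {L : Subgroup G} (h : Core G b L) : ¬ Spor.IsoM G := fun hG =>
  not_mem_sigma h (Sigma.MonsterFin.mem_sigma hG)

theorem no_B {G : Type*} [Group G] [Finite G] [IsSimpleGroup G] {b : G} {L : Subgroup G} (h : Core G b L) :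
    ¬ Spor.IsoB G := fun hG => not_mem_sigma h (Sigma.BabyWit.mem_sigma hG)

/-! ### `Th` -/

theorem exists_dvd {s : Multiset ℕ} {p : ℕ} (hp : p.Prime) (h : p ∣ s.lcm) : ∃ c ∈ s, p ∣ c := by
  have h1 : s.lcm ∣ s.prod := Multiset.lcm_dvd.2 fun c hc => Multiset.dvd_prod hc
  exact hp.prime.exists_mem_multiset_dvd (h.trans h1)

/-- no permutation of nine points has order 21 -/
theorem orderOf_ne (σ : Equiv.Perm (Fin 9)) : orderOf σ ≠ 21 := by
  intro h
  rw [← Equiv.Perm.lcm_cycleType] at h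
  have hs : σ.cycleType.sum ≤ 9 := by
    rw [σ.sum_cycleType]
    exact (Finset.card_le_univ _).trans (by rw [Fintype.card_fin])
  have hle : ∀ c ∈ σ.cycleType, c ≤ σ.cycleType.sum := fun c hc => Multiset.single_le_sum (fun _ _ => Nat.zero_le _) c hc
  obtain ⟨c, hc, h7⟩ := exists_dvd (s := σ.cycleType) (p := 7) (by norm_num) (by rw [h]; norm_num)
  obtain ⟨d, hd, h3⟩ := exists_dvd (s := σ.cycleType) (p := 3) (by norm_num) (by rw [h]; norm_num)
  have hc0 : 2 ≤ c := Equiv.Perm.two_le_of_mem_cycleType hc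
  have hd0 : 2 ≤ d := Equiv.Perm.two_le_of_mem_cycleType hd
  have hc9 := hle c hc
  have hd9 := hle d hd
  have hcd : d ≠ c := by
    rintro rfl
    omega
  have hde : d ∈ σ.cycleType.erase c := (Multiset.mem_erase_of_ne hcd).2 hd
  have h1 : d ≤ (σ.cycleType.erase c).sum := Multiset.single_le_sum (fun _ _ => Nat.zero_le _) d hde
  have h2 : c + (σ.cycleType.erase c).sum = σ.cycleType.sum := by
    rw [← Multiset.sum_cons, Multiset.cons_erase hc]
  omega

open Cfsg.Agent.CpAutTh.Main Cfsg.Agent.Th Cfsg.Agent.Th.Base Cfsg.Agent.Th.Word Cfsg.Agent.Th.FlagCover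
  Cfsg.Agent.Th.IndexUpper Cfsg.Agent.Th.KOracle in
theorem no_Th {G : Type*} [Group G] {b : G} {L : Subgroup G} (h : Core G b L) : ¬ Spor.IsoTh G := by
  rintro ⟨e⟩
  have h' := h.congr e
  have hctx := Cfsg.Agent.KFacts.Th.Main.ctx
  obtain ⟨t, s, ht, hs, hts⟩ := h'.facts.ts
  set b' := e b
  have ht' : orderOf (t : Spor.Th) = 2 := by rw [Subgroup.orderOf_coe]; exact ht
  have hs' : orderOf (s : Spor.Th) = 7 := by rw [Subgroup.orderOf_coe]; exact hs
  have hts' : (t : Spor.Th) * s = s * t := congrArg Subtype.val hts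
  obtain ⟨g, hg⟩ := hone (t : Spor.Th) ht'
  obtain ⟨f, hf, hker, -⟩ := hctx.exists_epi
  have hcard := hctx.cardQ
  have hx : orderOf (b' * (s : Spor.Th)) = 21 := by
    have hc : Commute b' (s : Spor.Th) := (h'.le s s.2).symm
    rw [hc.orderOf_mul_eq_mul_orderOf_of_coprime (by rw [h'.hb, hs']; norm_num), h'.hb, hs']
  have hxt : (b' * (s : Spor.Th)) * t = t * (b' * (s : Spor.Th)) := by
    have h1 : (t : Spor.Th) * b' = b' * t := h'.le t t.2
    rw [mul_assoc, ← hts', ← mul_assoc, ← h1, mul_assoc]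
  set x := g * (b' * (s : Spor.Th)) * g⁻¹ with hxdef
  have hx21 : orderOf x = 21 := by
    rw [← hx, hxdef]
    exact orderOf_injective (MulAut.conj g).toMonoidHom (MulAut.conj g).injective _
  have hxC : x ∈ sub gTh isC := by
    rw [← hctx.cent, mem_centralizer_singleton_iff, ← hg, hxdef]
    calc g * (b' * (s : Spor.Th)) * g⁻¹ * (g * t * g⁻¹) = g * ((b' * (s : Spor.Th)) * t) * g⁻¹ := by group
      _ = g * (t * (b' * (s : Spor.Th))) * g⁻¹ := by rw [hxt]
      _ = g * t * g⁻¹ * (g * (b' * (s : Spor.Th)) * g⁻¹) := by group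
  set X : ↥(sub gTh isC) := ⟨x, hxC⟩ with hX
  have hX21 : orderOf X = 21 := by rw [hX, Subgroup.orderOf_mk]; exact hx21
  have h1 : orderOf (f X) ∣ 21 := by rw [← hX21]; exact orderOf_map_dvd f X
  have h2 : X ^ orderOf (f X) ∈ f.ker := by rw [MonoidHom.mem_ker, map_pow, pow_orderOf_eq_one]
  rw [hker, mem_subgroupOf] at h2
  have h3 : (X ^ orderOf (f X)) ^ 512 = 1 := by
    have h4 : (⟨_, h2⟩ : ↥(Cfsg.Agent.Th.CStruct.Q0 gTh)) ^ 512 = 1 := by rw [← hcard]; exact pow_card_eq_one'
    have h5 := congrArg Subtype.val h4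
    exact Subtype.ext h5
  rw [← pow_mul] at h3
  have h4 := orderOf_dvd_of_pow_eq_one h3
  rw [hX21] at h4
  have h5 : 21 ∣ orderOf (f X) := Nat.Coprime.dvd_of_dvd_mul_right (by norm_num) h4
  have h6 : orderOf (f X) = 21 := Nat.dvd_antisymm h1 h5
  rw [← Subgroup.orderOf_coe] at h6
  exact orderOf_ne _ h6

/-! ### `J₄` -/

/-- the order of a direct product -/
theorem card_mul_dvd {G : Type*} [Group G] {L C : Subgroup G} (hinf : L ⊓ C = ⊥)
    (hcomm : ∀ l ∈ L, ∀ c ∈ C, l * c = c * l) : Nat.card L * Nat.card C ∣ Nat.card G := by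
  let f : ↥L × ↥C →* G := MonoidHom.noncommCoprod L.subtype C.subtype fun l c => hcomm l l.2 c c.2
  have hf : Function.Injective f := by
    rw [injective_iff_map_eq_one]
    rintro ⟨l, c⟩ hlc
    have h1 : (l : G) * c = 1 := hlc
    have h2 : (l : G) = (c : G)⁻¹ := eq_inv_of_mul_eq_one_left h1
    have h3 : (l : G) ∈ L ⊓ C := mem_inf.2 ⟨l.2, by rw [h2]; exact C.inv_mem c.2⟩
    rw [hinf, mem_bot] at h3
    rw [h3, one_mul] at h1
    exact Prod.ext (Subtype.ext h3) (Subtype.ext h1)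
  rw [← Nat.card_prod]
  exact card_dvd_of_injective f hf

/-- a group acting on `L` and mapping onto a simple group of order divisible by 11 -/
theorem simple_dvd {G : Type*} [Group G] [Finite G] {b : G} {L : Subgroup G} (h : Core G b L) {D : Type*} [Group D]
    (ι : D →* G) (hι : Function.Injective ι) (hD : ∀ d, ι d * b = b * ι d) {S : Type*} [Group S] [IsSimpleGroup S]
    (f : D →* S) (hf : Function.Surjective f) (h11 : 11 ∣ Nat.card S) : Nat.card L * Nat.card S ∣ Nat.card G := by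
  have hfin : Finite D := Finite.of_injective ι hι
  have hle : L ≤ centralizer ({b} : Set G) := fun l hl => mem_centralizer_singleton_iff.2 (h.le l hl)
  set X := ↥(centralizer ({b} : Set G))
  set N : Subgroup X := L.subgroupOf (centralizer ({b} : Set G)) with hN
  have hNn : N.Normal := ⟨fun l hl g => h.nrm g (mem_centralizer_singleton_iff.1 g.2) l hl⟩
  have hNf : Facts ↥N := Facts.congr (subgroupOfEquivOfLe hle) h.facts
  let j : D →* X := ι.codRestrict (centralizer ({b} : Set G)) fun d => mem_centralizer_singleton_iff.2 (hD d)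
  let κ : D →* MulAut ↥N := (MulAut.conjNormal (H := N)).comp j
  have hfinA : Finite (MulAut ↥N) := Finite.of_injective (fun φ : MulAut ↥N => (φ : ↥N → ↥N)) DFunLike.coe_injective
  have hdiv : Nat.card S ∣ Nat.card κ.ker := by
    have hn : (κ.ker.map f).Normal := (inferInstance : κ.ker.Normal).map f hf
    rcases hn.eq_bot_or_eq_top with h1 | h1
    · exfalso
      rw [Subgroup.map_eq_bot_iff] at h1
      have h2 : f.ker.index ∣ κ.ker.index := index_dvd_of_le h1
      rw [index_ker, index_ker, MonoidHom.range_eq_top.2 hf, card_top] at h2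
      exact hNf.aut11 ((h11.trans h2).trans (card_subgroup_dvd_card _))
    · have h2 : Nat.card (κ.ker.map f) ∣ Nat.card κ.ker := Subgroup.card_map_dvd _ _
      rwa [h1, card_top] at h2
  set C : Subgroup G := κ.ker.map ι with hC
  have hCc : Nat.card C = Nat.card κ.ker := Subgroup.card_map_of_injective hι
  have hcomm : ∀ l ∈ L, ∀ c ∈ C, l * c = c * l := by
    rintro l hl _ ⟨d, hd, rfl⟩
    have h3 : κ d = 1 := hd
    have h4 := congrArg (fun φ : MulAut ↥N => ((φ ⟨⟨l, hle hl⟩, hl⟩ : ↥N) : X)) h3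
    have h5 : j d * ⟨l, hle hl⟩ * (j d)⁻¹ = ⟨l, hle hl⟩ := by
      have h5 := MulAut.conjNormal_apply (H := N) (j d) ⟨⟨l, hle hl⟩, hl⟩
      exact h5.symm.trans h4
    have h6 := congrArg Subtype.val h5
    have h7 : ι d * l * (ι d)⁻¹ = l := h6
    exact (mul_inv_eq_iff_eq_mul.1 h7).symm
  have hinf : L ⊓ C = ⊥ := by
    rw [eq_bot_iff]
    rintro x ⟨hxL, hxC⟩
    have h1 : (⟨x, hxL⟩ : L) ∈ center L := by
      rw [mem_center_iff]
      intro g
      exact Subtype.ext (hcomm g g.2 x hxC)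
    have hs := h.facts.simple
    rcases hs.eq_bot_or_eq_top_of_normal (center ↥L) inferInstance with h2 | h2
    · rw [h2, mem_bot] at h1
      rw [mem_bot]
      exact congrArg Subtype.val h1
    · exfalso
      obtain ⟨u, v, huv⟩ := h.facts.na
      apply huv
      have h3 : u ∈ center L := by rw [h2]; trivial
      exact (mem_center_iff.1 h3 v).symm
  have h1 := card_mul_dvd hinf hcomm
  rw [hCc] at h1
  exact (Nat.mul_dvd_mul_left _ hdiv).trans h1

open Cfsg.Agent.BpSpor.J4 Cfsg.Agent.SporadicA Cfsg.Agent.J4Type in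
open scoped Pointwise in
theorem no_J4 {G : Type*} [Group G] {b : G} {L : Subgroup G} (h : Core G b L) : ¬ Spor.IsoJ4 G := by
  intro hJ
  obtain ⟨hfin, hsim, ⟨F⟩⟩ := KFacts.J4.Base.exists_full (K := G) hJ
  have hcard : Nat.card G = 86775571046077562880 := UniqSheet.J4.card_eq hJ
  have : Fact (Nat.Prime 3) := ⟨Nat.prime_three⟩
  have hidx : ¬ 3 ∣ (centralizer ({F.C.z} : Set G)).index := by
    intro h3
    -- `27 ∣ |C(z)|`
    have h9 : 9 ∣ Nat.card F.C.P.range := by
      have hle : Spor.M22 ≤ F.C.P.range := by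
        intro w hw
        rw [F.C.P_range]
        have h4 := (Cfsg.Agent.SporadicA.MathieuRecog.mem_M22_iff _).1 hw
        refine ⟨h4.1, ?_⟩
        change w • base = base
        rw [base, Finset.smul_finset_insert, Finset.smul_finset_singleton]
        change ({w none, w (some 0)} : Finset GolayPt) = _
        rw [h4.2.1, h4.2.2]
      refine dvd_trans ?_ (card_dvd_of_le hle)
      rw [Cfsg.Agent.SporadicA.MathieuRecog.card_M22]
      norm_num
    have hk3 : 3 ∣ Nat.card F.C.P.ker := by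
      have hρC : F.C.ρ ∈ centralizer ({F.C.z} : Set G) := mem_centralizer_singleton_iff.2 F.C.ρ_comm
      have hPρ : (⟨F.C.ρ, hρC⟩ : centralizer ({F.C.z} : Set G)) ∈ F.C.P.ker :=
        (F.C.P_ker _).2 ⟨1, F.C.Q.one_mem, 1, by rw [one_mul, pow_one]⟩
      have h4 := orderOf_dvd_natCard (⟨⟨F.C.ρ, hρC⟩, hPρ⟩ : F.C.P.ker)
      rwa [Subgroup.orderOf_mk, Subgroup.orderOf_mk, F.C.ρ_order] at h4
    have h27 : 27 ∣ Nat.card (centralizer ({F.C.z} : Set G)) := by
      rw [← card_mul_index F.C.P.ker, index_ker]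
      exact (show 27 = 3 * 9 by norm_num) ▸ Nat.mul_dvd_mul hk3 h9
    have h81 : 27 * 3 ∣ Nat.card G := by
      rw [← card_mul_index (centralizer ({F.C.z} : Set G))]
      exact Nat.mul_dvd_mul h27 h3
    rw [hcard] at h81
    norm_num at h81
  obtain ⟨g, hg⟩ := conj_rho F.C hidx h.hb
  have h' := h.congr (MulAut.conj g)
  have hc : ∀ d : G, d * F.C.ρ = F.C.ρ * d → d * (MulAut.conj g b) = (MulAut.conj g b) * d := by
    intro d hd
    rw [MulAut.conj_apply]
    rcases hg with hg | hg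
    · rw [hg]; exact hd
    · rw [hg]; exact (show Commute d F.C.ρ from hd).inv_right.eq
  have hs := Cfsg.Agent.SporadicA.MathieuRecog.simple_M22
  have h1 := simple_dvd h' (D := ↥(centralizer ({zH F.C} : Set (HH F.C))))
    ((HH F.C).subtype.comp (centralizer ({zH F.C} : Set (HH F.C))).subtype)
    ((subtype_injective _).comp (subtype_injective _))
    (fun d => hc _ (mem_centralizer_singleton_iff.1 (d : HH F.C).2)) (fM F.C) (fM_surj F.C)
    (by rw [Cfsg.Agent.SporadicA.MathieuRecog.card_M22]; norm_num)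
  rw [h'.facts.card, Cfsg.Agent.SporadicA.MathieuRecog.card_M22, hcard] at h1
  norm_num at h1

end Cfsg.Agent.H439.LSeven.SporRow
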