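import Mathlib
import Cfsg.Agent.H439.LSeven.Base
import Cfsg.Agent.H439.LSeven.WitThree
import Cfsg.Agent.H439.LSeven.PsuWit
import Cfsg.Agent.H439.LSeven.SmallCl
import Cfsg.Agent.H439.LSeven.ExcWit
import Cfsg.Agent.H439.LSeven.FFour
import Cfsg.Agent.H439.LSeven.PslFin
import Cfsg.Agent.H439.LSeven.Spor
import Cfsg.Agent.BiChar.TwDFour
import Cfsg.Agent.BiChar.TwFFour
import Cfsg.Agent.OddRank.SzTits
import Cfsg.Agent.Sigma.RowsExc
import Cfsg.Agent.EvenType.CTwoCard
import Cfsg.Agent.NotCT.Orders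
import Cfsg.Agent.ResEven.Base
import Cfsg.Agent.SigTab.RestList
import Cfsg.Agent.UniqLoc.Final
import Cfsg.Agent.H168.GLFour
import Cfsg.Agent.S0292
import Cfsg.Agent.S0293
import Cfsg.Agent.S0294

/-!
helper439 (for S3731): the known simple groups of characteristic 2 type with the configuration `Core`.
-/

set_option autoImplicit false
set_option linter.unusedSectionVars false

namespace Cfsg.Agent.H439.LSeven.Main

open Subgroup Cfsg Cfsg.Agent.H439.LSeven Cfsg.Agent.H439.LSeven.SmallCl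

universe u

theorem yw_of {G : Type*} [Group G] {b : G} {L : Subgroup G} (h : Core G b L) : YW G := by
  obtain ⟨y, -, w, -, hy, -, hwy⟩ := exists_yw h.facts
  exact ⟨y, w, hy, hwy⟩

theorem dvd31 {G : Type*} [Group G] [Finite G] {b : G} {L : Subgroup G} (h : Core G b L) : 31 ∣ Nat.card G :=
  dvd_card' h.facts (by norm_num)

/-- the final identification -/
theorem of_psl {G : Type*} [Group G] {F : Type*} [Field F] [Fintype F] (hF : Fintype.card F = 2)
    (e : G ≃* Matrix.ProjectiveSpecialLinearGroup (Fin 7) F) : Nonempty (G ≃* GL (Fin 7) (ZMod 2)) := by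
  obtain ⟨e1⟩ := H168.psl_equiv_gl (F := F) hF 7
  have e2 : ZMod 2 ≃+* F := ZMod.ringEquivOfPrime F Nat.prime_two hF
  exact ⟨(e.trans e1).trans (Units.mapEquiv (RingEquiv.mapMatrix (m := Fin 7) e2.symm).toMulEquiv)⟩

theorem psl {G : Type*} [Group G] [Finite G] {b : G} {L : Subgroup G} (h : Core G b L) {F : Type*} [Field F]
    [Fintype F] [CharP F 2] {n : ℕ} (hn : 2 ≤ n) (e : G ≃* Matrix.ProjectiveSpecialLinearGroup (Fin n) F) :
    Nonempty (G ≃* GL (Fin 7) (ZMod 2)) := by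
  by_cases h4 : n ≤ 4
  · exact absurd ((yw_of h).congr e) (no_psl (by omega) h4)
  by_cases h8 : 8 ≤ n
  · exact absurd (WitThree.psl_eight h8) ((h.congr e).not_wit le_rfl)
  by_cases h3 : 3 ∣ Fintype.card F - 1
  · exact absurd (WitThree.psl_split (by omega) h3) ((h.congr e).not_wit le_rfl)
  obtain ⟨rfl, hF⟩ := PslFin.main h3 (by omega) (by omega) (h.congr e)
  exact of_psl hF e

/-- groups of Lie type in characteristic 2 -/
theorem lie {G : Type u} [Group G] [Finite G] {b : G} {L : Subgroup G} (h : Core G b L) (hL : IsLieTypeChar 2 G) :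
    Nonempty (G ≃* GL (Fin 7) (ZMod 2)) := by
  rcases hL with ⟨F, iF, iT, hc, n, hn, -, ⟨e⟩⟩ | ⟨F, iF, iT, hc, m, hm, -, ⟨e⟩⟩ |
    ⟨F, iF, iT, hc, n, q, hq, hn, -, ⟨e⟩⟩ | ⟨F, iF, iT, hc, m, hm, hodd, he⟩ | ⟨F, iF, iT, hc, m, hm, ⟨e⟩⟩ |
    ⟨F, iF, iT, hc, m, a, c, hm, hab, ⟨e⟩⟩ | ⟨F, iF, iT, hc, he⟩ | ⟨K, iF, iT, hc, q, hq, he⟩ | ⟨-, he⟩ | ⟨-, he⟩ | ⟨h3, -⟩
  · exact psl h hn e
  · -- PSp
    exfalso
    by_cases h4 : m ≤ 4
    · exact no_psp h4 ((yw_of h).congr e)
    · exact (h.congr e).not_wit le_rfl (WitThree.psp (by omega))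
  · -- PSU
    exfalso
    by_cases h9 : n ≤ 9
    · obtain ⟨s, hs⟩ : ∃ s : ℕ, q = 2 ^ s := by
        obtain ⟨k, -, hk⟩ := FiniteField.card F 2
        have h1 : q ∣ 2 ^ (k : ℕ) := by
          rw [← hk, hq]
          exact dvd_pow_self q (by norm_num)
        obtain ⟨j, -, hj⟩ := (Nat.dvd_prime_pow Nat.prime_two).1 h1
        exact ⟨j, hj⟩
      exact no_psu hq hs hn h9 ((yw_of h).congr e)
    · exact (h.congr e).not_wit le_rfl (PsuWit.psu hq (by omega))
  · -- POmegaOdd
    exfalso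
    obtain ⟨k, -, hk⟩ := FiniteField.card F 2
    rw [hk] at hodd
    exact (Nat.not_even_iff_odd.2 hodd) ((Nat.even_pow.2 ⟨even_two, k.pos.ne'⟩))
  · -- POmegaPlus
    exfalso
    by_cases h4 : m ≤ 4
    · exact no_plus (by omega) h4 ((yw_of h).congr e)
    · exact (h.congr e).not_wit le_rfl (WitThree.plus (by omega))
  · -- POmegaMinus
    exfalso
    by_cases h4 : m - 1 ≤ 3
    · exact no_minus (by omega) h4 a c hab ((yw_of h).congr e)
    · exact (h.congr e).not_wit le_rfl (WitThree.minus (by omega) a c hab)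
  · -- G2, F4, E6, E7, E8
    exfalso
    have h2 : (2 : F) = 0 := CharTwo.two_eq_zero
    rcases he with ⟨h3, ⟨e⟩⟩ | ⟨⟨e⟩⟩ | ⟨⟨e⟩⟩ | ⟨⟨e⟩⟩ | ⟨⟨e⟩⟩
    · exact h.not2 (BiChar.GTwo.twoLocal_of e Nat.prime_three (by norm_num))
    · exact FFour.no_f4 h2 ((yw_of h).congr e)
    · exact (h.congr e).not_wit le_rfl (ETable.Exc.e6_three_four F h2)
    · exact (h.congr e).not_wit le_rfl (ETable.Exc.e7_three_four F h2)
    · exact (h.congr e).not_wit le_rfl (ETable.Exc.e8_three_four F h2)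
  · -- 2E6, 3D4
    exfalso
    have h2 : (2 : K) = 0 := CharTwo.two_eq_zero
    rcases he with ⟨hK, ⟨e⟩⟩ | ⟨hK, ⟨e⟩⟩
    · exact (h.congr e).not_wit le_rfl (ExcWit.twE6 K q hq h2 (by rw [Nat.card_eq_fintype_card, hK]))
    · exact h.not2 (BiChar.TwDFour.twoLocal_of hq hK e Nat.prime_three (by norm_num))
  · -- Suzuki groups
    exfalso
    apply h.not2
    intro H _
    exact OddRank.SzTits.pRankLE_mono Nat.prime_three (by norm_num)
      (OddRank.SzTits.pRankLE_subgroup (OddRank.SzTits.suzuki he Nat.prime_three (by norm_num)) H)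
  · exact absurd (BiChar.TwFFour.twoLocal_of he Nat.prime_three (by norm_num)) h.not2
  · exact absurd h3 (by norm_num)

/-- alternating groups of degree at most 12 -/
theorem no_alt {G : Type*} [Group G] [Finite G] {b : G} {L : Subgroup G} (h : Core G b L) {n : ℕ} (hn : n ≤ 12)
    (he : Nonempty (G ≃* alternatingGroup (Fin n))) : False := by
  obtain ⟨e⟩ := he
  have h1 := dvd31 h
  rw [Nat.card_congr e.toEquiv] at h1
  have h2 : Nat.card (alternatingGroup (Fin n)) ∣ n.factorial := by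
    have h3 := card_subgroup_dvd_card (alternatingGroup (Fin n))
    rwa [Nat.card_perm, Nat.card_fin] at h3
  have h3 := (Nat.Prime.dvd_factorial (by norm_num : Nat.Prime 31)).1 (h1.trans h2)
  omega

theorem not_dvd {G : Type*} [Group G] [Finite G] {b : G} {L : Subgroup G} (h : Core G b L) {N : ℕ}
    (hN : Nat.card G = N) (h31 : ¬ 31 ∣ N) : False := h31 (hN ▸ dvd31 h)

theorem card_o73 {F : Type*} [Field F] [Fintype F] (hF : Fintype.card F = 3) :
    ¬ 31 ∣ Nat.card (POmega F (quadFormOdd 3 F)) := by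
  have h1 := S0292.result (F := F) (q := 3) hF (by decide) 3 le_rfl
  intro h2
  have h3 : 31 ∣ 2 * Nat.card (POmega F (quadFormOdd 3 F)) := h2.mul_left 2
  rw [h1] at h3
  revert h3
  simp only [Finset.prod_range_succ, Finset.prod_range_zero]
  norm_num

theorem card_o8p3 {F : Type*} [Field F] [Fintype F] (hF : Fintype.card F = 3) :
    ¬ 31 ∣ Nat.card (POmega F (quadFormPlus 4 F)) := by
  have h1 := S0293.result (F := F) (q := 3) hF 4 le_rfl
  intro h2
  have h3 := h2.mul_left (Nat.gcd 4 (3 ^ 4 - 1))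
  rw [h1] at h3
  revert h3
  simp only [Finset.prod_range_succ, Finset.prod_range_zero]
  norm_num

theorem card_o8m3 {F : Type*} [Field F] [Fintype F] (hF : Fintype.card F = 3) (a b : F)
    (hab : ∀ z₁ z₂ : F, z₁ ^ 2 + a * z₁ * z₂ + b * z₂ ^ 2 = 0 → z₁ = 0 ∧ z₂ = 0) :
    ¬ 31 ∣ Nat.card (POmega F (quadFormMinus 3 F a b)) := by
  have h1 := S0294.result (F := F) (q := 3) hF 4 le_rfl a b hab
  intro h2
  have h3 := h2.mul_left (Nat.gcd 4 (3 ^ 4 + 1))
  rw [show (4 - 1 : ℕ) = 3 from rfl] at h1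
  rw [h1] at h3
  revert h3
  simp only [Finset.prod_range_succ, Finset.prod_range_zero]
  norm_num

/-- **the recognition theorem**, given the classification -/
theorem main {G : Type u} [Group G] [Finite G] [IsSimpleGroup G]
    (hkn : ∀ (X : Type u) [Group X] [Finite X] [IsSimpleGroup X], IsKnownSimple' X)
    (hna : ¬ IsMulCommutative G) (hG : IsCharacteristicTwoType G) {b : G} {L : Subgroup G} (h : Core G b L) :
    Nonempty (G ≃* GL (Fin 7) (ZMod 2)) := by
  have hR : IsOfRestrictedEvenType G := ResEven.Base.restricted_of_charTwo hG (rank_two h.facts)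
  have T := UniqLoc.Assemble.resRows hkn (fun _ _ _ h => GTwoRows.lpExists_on h)
  rcases SigTab.restList T.gen T.b T.bc T.more (hkn G) hna hR with
    h' | h' | h' | h' | h' | h' | h' | h' | h' | h'
  · rcases h' with h' | ⟨-, h'⟩ | ⟨h2, -⟩
    · exact lie h h'
    · exfalso
      rcases h' with he | ⟨F, iF, iT, hF, ⟨e⟩⟩ | h'
      · exact no_alt h (by norm_num) he
      · exact not_dvd h ((Nat.card_congr e.toEquiv).trans (SmallSimple.PSLFacts.card_psu_three_three hF)) (by norm_num)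
      · exact not_dvd h (OddRank.SzTits.tits_card h') (by norm_num)
    · exact absurd h2 (by norm_num)
  · obtain ⟨n, rfl, he⟩ := h'
    exact (no_alt h (by norm_num) he).elim
  · obtain ⟨n, rfl, he⟩ := h'
    exact (no_alt h (by norm_num) he).elim
  · obtain ⟨F, iF, iT, n, -, ⟨rfl, hF⟩, ⟨e⟩⟩ := h'
    exact (not_dvd h ((Nat.card_congr e.toEquiv).trans (EvenType.CTwoCard.psl4 hF)) (by norm_num)).elim
  · obtain ⟨F, iF, iT, n, q, -, hc, ⟨rfl, rfl⟩, ⟨e⟩⟩ := h'
    exact (not_dvd h ((Nat.card_congr e.toEquiv).trans (EvenType.CTwoCard.u4 (hc.trans (by norm_num))))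
      (by norm_num)).elim
  · obtain ⟨F, iF, iT, -, hF, ⟨e⟩⟩ := h'
    exact (not_dvd h ((Nat.card_congr e.toEquiv).trans (EvenType.CTwoCard.g2 hF)) (by norm_num)).elim
  · obtain ⟨F, iF, iT, m, -, ⟨rfl, hF⟩, ⟨e⟩⟩ := h'
    exact (not_dvd h (Nat.card_congr e.toEquiv) (card_o73 hF)).elim
  · obtain ⟨F, iF, iT, m, -, ⟨rfl, hF⟩, ⟨e⟩⟩ := h'
    exact (not_dvd h (Nat.card_congr e.toEquiv) (card_o8p3 hF)).elim
  · obtain ⟨F, iF, iT, m, a, c, -, ⟨rfl, hF⟩, hab, ⟨e⟩⟩ := h'
    exact (not_dvd h (Nat.card_congr e.toEquiv) (card_o8m3 hF a c hab)).elim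
  · exfalso
    rcases h' with h' | h' | h' | h' | h' | h' | h' | h' | h' | h' | h' | h' | h' | h' | h' | h' | h' | h' | h' | h'
    · exact not_dvd h (NotCT.Orders.m22 h') (by norm_num)
    · exact not_dvd h (NotCT.Orders.m23 h') (by norm_num)
    · exact not_dvd h (NotCT.Orders.m24 h') (by norm_num)
    · exact not_dvd h (NotCT.Orders.j2 h') (by norm_num)
    · exact not_dvd h (NotCT.Orders.j3 h') (by norm_num)
    · exact SporRow.no_J4 h h'
    · exact not_dvd h (NotCT.Orders.hs h') (by norm_num)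
    · exact not_dvd h (NotCT.Orders.he h') (by norm_num)
    · exact not_dvd h (NotCT.Orders.ru h') (by norm_num)
    · exact not_dvd h (NotCT.Orders.suz h') (by norm_num)
    · exact not_dvd h (NotCT.Orders.co1 h') (by norm_num)
    · exact not_dvd h (NotCT.Orders.co2 h') (by norm_num)
    · exact not_dvd h (NotCT.Orders.co3 h') (by norm_num)
    · exact not_dvd h (NotCT.Orders.fi22 h') (by norm_num)
    · exact not_dvd h (NotCT.Orders.fi23 h') (by norm_num)
    · exact not_dvd h (NotCT.Orders.fi24 h') (by norm_num)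
    · exact not_dvd h (NotCT.Orders.hn h') (by norm_num)
    · exact SporRow.no_Th h h'
    · exact SporRow.no_B h h'
    · exact SporRow.no_M h h'

end Cfsg.Agent.H439.LSeven.Main
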